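import Mathlib
import Cfsg.Prelude.Def_CaseTheorems
import Cfsg.Agent.PLocal.AmbSyl
import Cfsg.Agent.Solv.Coprime2

/-!
Definitions for S3257 (a class `D` of subgroups of odd prime order `p`, any two generating a
group `Q A` with `Q` a `q`-group).  Members of `D` are called points.
-/

set_option autoImplicit false

namespace Cfsg.Agent.FrD

open Subgroup Cfsg Cfsg.Agent.PLocal.Amb

variable {G : Type*} [Group G]

/-- The basic part of the hypothesis. -/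
structure Pre (p q : ℕ) (D : Set (Subgroup G)) : Prop where
  pp : p.Prime
  p2 : p ≠ 2
  qp : q.Prime
  q2 : q ≠ 2
  pq : p ≠ q
  card : ∀ A ∈ D, Nat.card A = p
  inv : ∀ A ∈ D, ∀ g : G, cj(g, A) ∈ D
  line : ∀ A ∈ D, ∀ B ∈ D, ∃ Q : Subgroup G, IsPGroup q Q ∧ A ≤ 𝐍[Q] ∧ B ≤ Q ⊔ A

/-- The inductive hypothesis. -/
structure Hyp (p q : ℕ) (D : Set (Subgroup G)) : Prop extends Pre p q D where
  two : ∀ A ∈ D, ∀ B ∈ D, ∀ A' ∈ D, ∀ B' ∈ D, A' ≠ B' → A' ≤ A ⊔ B → B' ≤ A ⊔ B → A ⊔ B ≤ A' ⊔ B'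
  n1 : ∀ A ∈ D, ∀ P : Subgroup G, IsPGroup q P → A ≤ 𝐍[P] → ⁅P, A⁆ ⊓ 𝐂[A] ≤ 𝐂[⁅P, A⁆]
  n2 : ∀ A ∈ D, ∀ P : Subgroup G, IsPGroup q P → A ≤ 𝐍[P] →
    ⁅P, A⁆ ⊓ 𝐂[A] = ⊥ ∨ ⁅⁅P, A⁆, ⁅P, A⁆⁆ ≤ 𝐂[A]

/-- The conclusion proved by induction. -/
def Concl (q : ℕ) (D : Set (Subgroup G)) : Prop :=
  ∀ A ∈ D, ∃ R : Subgroup G, R.Normal ∧ IsPGroup q R ∧ ∀ B ∈ D, B ≤ R ⊔ A

/-- The subgroup generated by the points in `H`. -/
def dcl (D : Set (Subgroup G)) (H : Subgroup G) : Subgroup G := sSup {B | B ∈ D ∧ B ≤ H}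

/-- The derived subgroup of `dcl D H`. -/
def rad (D : Set (Subgroup G)) (H : Subgroup G) : Subgroup G := ⁅dcl D H, dcl D H⁆

/-- The points in `H` generate `R A`, `R = rad D H` a `q`-group. -/
def Sm (q : ℕ) (D : Set (Subgroup G)) (H : Subgroup G) : Prop :=
  IsPGroup q (rad D H) ∧ ∀ A ∈ D, A ≤ H → dcl D H = rad D H ⊔ A ∧ ⁅rad D H, A⁆ = rad D H

/-- Minimal counterexample. -/
structure Ce (p q : ℕ) (D : Set (Subgroup G)) (N : Subgroup G) : Prop extends Hyp p q D where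
  ne : D.Nonempty
  gen : sSup D = ⊤
  nn : N.Normal
  ns : IsSimpleGroup N
  na : ¬ IsMulCommutative N
  sup : ∀ A ∈ D, N ⊔ A = ⊤
  cent : 𝐂[N] = ⊥
  sm : ∀ H : Subgroup G, H ≠ ⊤ → Sm q D H

/-- Blocks: maximal proper subgroups generated by points. -/
structure Blk (D : Set (Subgroup G)) (M : Subgroup G) : Prop where
  ne_top : M ≠ ⊤
  eq : dcl D M = M
  max : ∀ H : Subgroup G, H ≠ ⊤ → M ≤ H → dcl D H ≤ M

variable {p q : ℕ} {D : Set (Subgroup G)}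

theorem le_dcl {A H : Subgroup G} (hA : A ∈ D) (h : A ≤ H) : A ≤ dcl D H :=
  le_sSup (s := {B | B ∈ D ∧ B ≤ H}) ⟨hA, h⟩

theorem dcl_le_iff {H K : Subgroup G} : dcl D H ≤ K ↔ ∀ B ∈ D, B ≤ H → B ≤ K :=
  ⟨fun h _ hB hBH => (le_dcl hB hBH).trans h, fun h => sSup_le fun B hB => h B hB.1 hB.2⟩

theorem dcl_le (H : Subgroup G) : dcl D H ≤ H := dcl_le_iff.2 fun _ _ h => h

theorem dcl_le_dcl {H K : Subgroup G} (h : dcl D H ≤ K) : dcl D H ≤ dcl D K :=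
  dcl_le_iff.2 fun _ hB hBH => le_dcl hB ((le_dcl hB hBH).trans h)

theorem dcl_mono {H K : Subgroup G} (h : H ≤ K) : dcl D H ≤ dcl D K :=
  dcl_le_dcl ((dcl_le H).trans h)

theorem dcl_dcl (H : Subgroup G) : dcl D (dcl D H) = dcl D H :=
  le_antisymm (dcl_le _) (dcl_le_dcl le_rfl)

theorem rad_dcl (H : Subgroup G) : rad D (dcl D H) = rad D H := by
  rw [rad, dcl_dcl, rad]

theorem rad_le_dcl (H : Subgroup G) : rad D H ≤ dcl D H :=
  Solv.commutator_le_of_le_normalizer le_normalizer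

theorem rad_le (H : Subgroup G) : rad D H ≤ H := (rad_le_dcl H).trans (dcl_le H)

theorem rad_le_rad {H K : Subgroup G} (h : dcl D H ≤ K) : rad D H ≤ rad D K :=
  commutator_mono (dcl_le_dcl h) (dcl_le_dcl h)

theorem rad_mono {H K : Subgroup G} (h : H ≤ K) : rad D H ≤ rad D K :=
  rad_le_rad ((dcl_le H).trans h)

theorem normalizer_dcl_le (H : Subgroup G) : 𝐍[dcl D H] ≤ 𝐍[rad D H] :=
  le_normalizer_commutator le_rfl le_rfl

theorem dcl_le_normalizer_rad (H : Subgroup G) : dcl D H ≤ 𝐍[rad D H] :=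
  le_normalizer.trans (normalizer_dcl_le H)

theorem dcl_sup {A B : Subgroup G} (hA : A ∈ D) (hB : B ∈ D) : dcl D (A ⊔ B) = A ⊔ B :=
  le_antisymm (dcl_le _) (sup_le (le_dcl hA le_sup_left) (le_dcl hB le_sup_right))

theorem Sm.of_dcl_eq {H K : Subgroup G} (h : Sm q D H) (e : dcl D K = dcl D H) : Sm q D K := by
  have e' : rad D K = rad D H := by rw [rad, e, rad]
  rw [Sm, e, e']
  exact ⟨h.1, fun A hA hAK => h.2 A hA (((le_dcl hA hAK).trans e.le).trans (dcl_le H))⟩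

namespace Pre

variable (h : Pre p q D)
include h

theorem dcl_cj (g : G) (H : Subgroup G) : dcl D cj(g, H) = cj(g, dcl D H) := by
  have key : ∀ (g : G) (H : Subgroup G), dcl D cj(g, H) ≤ cj(g, dcl D H) := fun g H =>
    dcl_le_iff.2 fun B hB hBH => le_cj_iff.2 (le_dcl (h.inv B hB _) (le_cj_iff.1 hBH))
  refine le_antisymm (key g H) (cj_le_iff.2 ?_)
  have := key g⁻¹ cj(g, H)
  rwa [cj_inv_cj] at this

theorem rad_cj (g : G) (H : Subgroup G) : rad D cj(g, H) = cj(g, rad D H) := by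
  rw [rad, h.dcl_cj, commutator_cj, rad]

theorem normalizer_le_dcl (H : Subgroup G) : 𝐍[H] ≤ 𝐍[dcl D H] := fun g hg => by
  rw [← cj_eq_iff, ← h.dcl_cj, cj_of_mem_normalizer hg]

theorem normalizer_le_rad (H : Subgroup G) : 𝐍[H] ≤ 𝐍[rad D H] :=
  (h.normalizer_le_dcl H).trans (normalizer_dcl_le H)

theorem le_normalizer_dcl (H : Subgroup G) : H ≤ 𝐍[dcl D H] :=
  le_normalizer.trans (h.normalizer_le_dcl H)

theorem le_normalizer_rad (H : Subgroup G) : H ≤ 𝐍[rad D H] :=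
  le_normalizer.trans (h.normalizer_le_rad H)

theorem blk_cj {M : Subgroup G} (hM : Blk D M) (g : G) : Blk D cj(g, M) where
  ne_top := fun e => hM.ne_top (cj_eq_top.1 e)
  eq := by rw [h.dcl_cj, hM.eq]
  max := fun H hH hle => by
    rw [le_cj_iff, ← h.dcl_cj]
    exact hM.max _ (fun e => hH (cj_eq_top.1 e)) (cj_le_iff.1 hle)

end Pre

theorem exists_blk [Finite G] {H : Subgroup G} (hH : H ≠ ⊤) : ∃ M, Blk D M ∧ dcl D H ≤ M := by
  obtain ⟨M, hM, hmax⟩ := Set.Finite.exists_le_maximal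
    (s := {K : Subgroup G | K ≠ ⊤ ∧ dcl D K = K}) (Set.toFinite _)
    (a := dcl D H) ⟨fun e => hH (top_le_iff.1 (e.ge.trans (dcl_le H))), dcl_dcl H⟩
  refine ⟨M, ⟨hmax.1.1, hmax.1.2, fun K hK hle => hmax.2 (y := dcl D K)
    ⟨fun e => hK (top_le_iff.1 (e.ge.trans (dcl_le K))), dcl_dcl K⟩ ?_⟩, hM⟩
  exact hmax.1.2.ge.trans (dcl_mono hle)

theorem Blk.eq_of_le {M M' : Subgroup G} (hM : Blk D M) (hM' : Blk D M') (h : M ≤ M') : M = M' :=
  le_antisymm h (hM'.eq.ge.trans (hM.max _ hM'.ne_top h))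

end Cfsg.Agent.FrD
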