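import Mathlib
import Cfsg.Agent.FrD.Defs
import Cfsg.Agent.S0205

/-! Basic facts on points, lines and the minimal counterexample (S3257). -/

set_option autoImplicit false
set_option linter.unusedSectionVars false

namespace Cfsg.Agent.FrD

open Subgroup Cfsg Cfsg.Agent.PLocal.Amb
open scoped commutatorElement

variable {G : Type*} [Group G] [Finite G] {p q : ℕ} {D : Set (Subgroup G)}

theorem api_comm_le {R A : Subgroup G} (hn : A ≤ 𝐍[R]) (hA : A ≤ 𝐂[A]) : ⁅R ⊔ A, R ⊔ A⁆ ≤ R := by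
  refine commutator_le.2 fun x hx y hy => ?_
  obtain ⟨r, hr, a, ha, rfl⟩ := (mem_sup_of_le_normalizer_left hn).1 hx
  obtain ⟨s, hs, b, hb, rfl⟩ := (mem_sup_of_le_normalizer_left hn).1 hy
  have e : ⁅r * a, s * b⁆ = r * (a * s * a⁻¹) * (a * b * a⁻¹ * r⁻¹ * b⁻¹) * s⁻¹ := by
    rw [commutatorElement_def]; group
  rw [e, hA hb a ha, mul_inv_cancel_right]
  exact mul_mem (mul_mem (mul_mem hr (conj_mem_of_mem_normalizer (hn ha) hs))
    (conj_mem_of_mem_normalizer (hn hb) (inv_mem hr))) (inv_mem hs)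

namespace Pre

variable (h : Pre p q D) {A B P H : Subgroup G}
include h

theorem pg (hA : A ∈ D) : IsPGroup p A :=
  IsPGroup.of_card (n := 1) (by rw [h.card A hA, pow_one])

theorem ne_bot (hA : A ∈ D) : A ≠ ⊥ := fun e =>
  h.pp.one_lt.ne' (by rw [← h.card A hA, e, card_bot])

theorem exists_gen (hA : A ∈ D) : ∃ a : G, orderOf a = p ∧ zpowers a = A := by
  have := Fact.mk h.pp
  obtain ⟨a, ha⟩ := (Subgroup.isCyclic_iff_exists_zpowers_eq_top A).1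
    (isCyclic_of_prime_card (h.card A hA))
  exact ⟨a, by rw [← Nat.card_zpowers, ha, h.card A hA], ha⟩

theorem comm (hA : A ∈ D) : A ≤ 𝐂[A] := by
  obtain ⟨a, -, rfl⟩ := h.exists_gen hA
  exact le_centralizer _

theorem cop (hA : A ∈ D) (hP : IsPGroup q P) : (Nat.card A).Coprime (Nat.card P) := by
  have := Fact.mk h.qp
  rw [h.card A hA]
  exact Solv.coprime_card_of_isPGroup hP ((Nat.coprime_primes h.pp h.qp).2 h.pq)

theorem odd_of_isPGroup (hP : IsPGroup q P) : Odd (Nat.card P) :=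
  have := Fact.mk h.qp
  Nat.coprime_two_left.1 (Solv.coprime_card_of_isPGroup hP
    ((Nat.coprime_primes Nat.prime_two h.qp).2 h.q2.symm))

theorem inf_eq_bot (hA : A ∈ D) (hP : IsPGroup q P) : P ⊓ A = ⊥ :=
  (hP.disjoint_of_coprime (h.pg hA) ((Nat.coprime_primes h.qp h.pp).2 h.pq.symm)).eq_bot

theorem comm_sup (hA : A ∈ D) (hP : IsPGroup q P) (hn : A ≤ 𝐍[P]) : ⁅P, A⁆ ⊔ (P ⊓ 𝐂[A]) = P :=
  have := Fact.mk h.qp
  Solv.coprime_commutator_sup_centralizer A P hn (h.cop hA hP) (.inr (Solv.isSolvable_of_isPGroup hP))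

theorem comm_comm (hA : A ∈ D) (hP : IsPGroup q P) (hn : A ≤ 𝐍[P]) : ⁅⁅P, A⁆, A⁆ = ⁅P, A⁆ :=
  have := Fact.mk h.qp
  Solv.coprime_commutator_commutator A P hn (h.cop hA hP) (.inr (Solv.isSolvable_of_isPGroup hP))

theorem cent_of_norm (hA : A ∈ D) (hP : IsPGroup q P) (hn : A ≤ 𝐍[P]) {x : G} (hx : x ∈ P)
    (hxA : x ∈ 𝐍[A]) : x ∈ 𝐂[A] := fun a ha => by
  have : a * x * a⁻¹ * x⁻¹ ∈ P ⊓ A := ⟨P.mul_mem (conj_mem_of_mem_normalizer (hn ha) hx)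
    (P.inv_mem hx), by
    rw [show a * x * a⁻¹ * x⁻¹ = a * (x * a⁻¹ * x⁻¹) by group]
    exact A.mul_mem ha (conj_mem_of_mem_normalizer hxA (inv_mem ha))⟩
  rw [h.inf_eq_bot hA hP, mem_bot, mul_inv_eq_one, mul_inv_eq_iff_eq_mul] at this
  exact this

theorem isSyl (hA : A ∈ D) (hP : IsPGroup q P) (hn : A ≤ 𝐍[P]) : IsSyl p A (P ⊔ A) :=
  ⟨le_sup_right, h.pg hA, fun R hR h1 h2 => by
    have := sup_inf_of_le_normalizer h1 hn
    rw [sup_comm, inf_eq_right.2 h2, (hP.disjoint_of_coprime hR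
      ((Nat.coprime_primes h.qp h.pp).2 h.pq.symm)).eq_bot, sup_bot_eq] at this
    exact this.le⟩

theorem exists_cj_of_le (hA : A ∈ D) (hB : B ∈ D) (hP : IsPGroup q P) (hn : A ≤ 𝐍[P])
    (hle : B ≤ P ⊔ A) : ∃ x ∈ ⁅P, A⁆, B = cj(x, A) := by
  have := Fact.mk h.pp
  have := Fact.mk h.qp
  obtain ⟨g, hg, e⟩ := (h.isSyl hA hP hn).exists_le_cj (h.pg hB) hle
  obtain ⟨y, hy, a, ha, rfl⟩ := (mem_sup_of_le_normalizer_left hn).1 hg
  obtain ⟨c, hc, d, hd, e'⟩ := Solv.coprime_exists_centralizer_mul_commutator A P hn (h.cop hA hP)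
    (.inr (Solv.isSolvable_of_isPGroup hP)) y⁻¹ (inv_mem hy)
  rw [← inv_inv y, e', mul_inv_rev, cj_mul, cj_mul, cj_of_mem ha,
    cj_of_mem_normalizer (inv_mem (centralizer_le_normalizer' A hc.2))] at e
  exact ⟨d⁻¹, inv_mem hd, eq_of_le_of_card_ge e (by rw [card_cj, h.card A hA, h.card B hB])⟩

theorem eq_of_isPGroup (hA : A ∈ D) (hB : B ∈ D) {T : Subgroup G} (hT : IsPGroup p T)
    (hAT : A ≤ T) (hBT : B ≤ T) : A = B := by
  obtain ⟨Q, hQ, hn, hle⟩ := h.line A hA B hB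
  exact (eq_of_le_of_card_ge (le_sup_right.trans ((h.isSyl hA hQ hn).max (A ⊔ B)
    (hT.to_le (sup_le hAT hBT)) le_sup_left (sup_le le_sup_right hle)))
    (by rw [h.card A hA, h.card B hB])).symm

theorem eq_of_le_normalizer (hA : A ∈ D) (hB : B ∈ D) (hn : B ≤ 𝐍[A]) : A = B :=
  h.eq_of_isPGroup hA hB (isPGroup_sup (h.pg hB) (h.pg hA) hn) le_sup_right le_sup_left

theorem comm_le_dcl (hA : A ∈ D) (hPH : P ≤ H) (hAH : A ≤ H) : ⁅P, A⁆ ≤ dcl D H :=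
  commutator_le.2 fun x hx _ ha => mul_mem
    (le_dcl (h.inv A hA x) (cj_le_of_mem hAH (hPH hx)) (conj_mem_cj x ha)) (inv_mem (le_dcl hA hAH ha))

theorem comm_le_rad (hA : A ∈ D) (hP : IsPGroup q P) (hn : A ≤ 𝐍[P]) (hPH : P ≤ H) (hAH : A ≤ H) :
    ⁅P, A⁆ ≤ rad D H :=
  (h.comm_comm hA hP hn).ge.trans (commutator_mono (h.comm_le_dcl hA hPH hAH) (le_dcl hA hAH))

theorem sm_of (hA : A ∈ D) (hP : IsPGroup q P) (hn : A ≤ 𝐍[P]) (hAH : A ≤ H)
    (hle : ∀ B ∈ D, B ≤ H → B ≤ P ⊔ A) : Sm q D H := by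
  have a1 := le_dcl hA hAH
  have hP' : IsPGroup q ↥(P ⊓ dcl D H) := hP.to_inf_left
  have hn' : A ≤ 𝐍[P ⊓ dcl D H] := le_normalizer_inf hn (a1.trans le_normalizer)
  have e1 : dcl D H = P ⊓ dcl D H ⊔ A := by
    have := sup_inf_of_le_normalizer a1 hn
    rwa [sup_comm, inf_eq_right.2 (dcl_le_iff.2 hle), sup_comm] at this
  have hH : P ⊓ dcl D H ≤ H := inf_le_right.trans (dcl_le H)
  generalize P ⊓ dcl D H = P' at hP' hn' e1 hH
  have key : ∀ B ∈ D, B ≤ H → ∃ x ∈ ⁅P', A⁆, B = cj(x, A) := fun B hB hBH =>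
    h.exists_cj_of_le hA hB hP' hn' ((le_dcl hB hBH).trans e1.le)
  have e2 : dcl D H = ⁅P', A⁆ ⊔ A := le_antisymm (dcl_le_iff.2 fun B hB hBH => by
    obtain ⟨x, hx, rfl⟩ := key B hB hBH
    exact cj_le_of_mem le_sup_right (mem_sup_left hx)) (sup_le (h.comm_le_dcl hA hH hAH) a1)
  have e3 : rad D H = ⁅P', A⁆ := le_antisymm (by
    rw [rad, e2]
    exact api_comm_le (Solv.le_normalizer_commutator_right _ _) (h.comm hA))
    (h.comm_le_rad hA hP' hn' hH hAH)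
  refine ⟨e3 ▸ hP'.to_le (Solv.commutator_le_of_le_normalizer hn'), fun B hB hBH => ?_⟩
  obtain ⟨x, hx, rfl⟩ := key B hB hBH
  rw [e2, e3]
  constructor
  · rw [← cj_of_mem (Q := ⁅P', A⁆ ⊔ A) (mem_sup_left hx), cj_sup, cj_of_mem hx]
  · conv_lhs => rw [← cj_of_mem hx, commutator_cj, h.comm_comm hA hP' hn', cj_of_mem hx]

theorem sm_line (hA : A ∈ D) (hB : B ∈ D) : Sm q D (A ⊔ B) := by
  obtain ⟨Q, hQ, hn, hle⟩ := h.line A hA B hB
  exact h.sm_of hA hQ hn le_sup_left fun _ _ e => e.trans (sup_le le_sup_right hle)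

/-- On a line `L = A ⊔ B`: `L = L' A`, `L' = rad D L` a `q`-group. -/
theorem line_eq (hA : A ∈ D) (hB : B ∈ D) : rad D (A ⊔ B) = ⁅A ⊔ B, A ⊔ B⁆ ∧
    rad D (A ⊔ B) ⊔ A = A ⊔ B :=
  ⟨by rw [rad, dcl_sup hA hB], by rw [← ((h.sm_line hA hB).2 A hA le_sup_left).1, dcl_sup hA hB]⟩

theorem exists_cj (hs : Sm q D H) (hA : A ∈ D) (hB : B ∈ D) (hAH : A ≤ H) (hBH : B ≤ H) :
    ∃ x ∈ rad D H, B = cj(x, A) :=
  (hs.2 A hA hAH).2 ▸ h.exists_cj_of_le hA hB hs.1 (hAH.trans (h.le_normalizer_rad H))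
    ((le_dcl hB hBH).trans (hs.2 A hA hAH).1.le)

theorem odd_dcl (hs : Sm q D H) : Odd (Nat.card (dcl D H)) := by
  by_cases e : ∃ A ∈ D, A ≤ H
  · obtain ⟨A, hA, hAH⟩ := e
    rw [(hs.2 A hA hAH).1, sup_comm]
    refine Odd.of_dvd_nat (Odd.mul (h.card A hA ▸ h.pp.odd_of_ne_two h.p2) (h.odd_of_isPGroup hs.1))
      ⟨_, (Grp.card_sup_mul_card_inf_of_le_normalizer (hAH.trans (h.le_normalizer_rad H))).symm⟩
  · rw [show dcl D H = ⊥ from le_bot_iff.1 (dcl_le_iff.2 fun B hB hBH => (e ⟨B, hB, hBH⟩).elim),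
      card_bot]
    exact odd_one

/-- A 2-group normalising `dcl D H` normalises a point of `H`. -/
theorem exists_fix (hs : Sm q D H) (hA : A ∈ D) (hAH : A ≤ H) {T : Subgroup G} (hT : IsPGroup 2 T)
    (hn : T ≤ 𝐍[dcl D H]) : ∃ B ∈ D, B ≤ H ∧ T ≤ 𝐍[B] := by
  have := Fact.mk h.pp
  obtain ⟨S, hS⟩ := Solv.exists_invariant_sylow T (dcl D H) hn (Solv.coprime_card_of_isPGroup hT
    (Nat.coprime_two_right.2 (h.odd_dcl hs))).symm (.inl (Solv.isSolvable_of_isPGroup hT)) p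
  have h1 := h.isSyl hA hs.1 (hAH.trans (h.le_normalizer_rad H))
  rw [← (hs.2 A hA hAH).1] at h1
  obtain ⟨g, hg, e⟩ := (isSyl_map_subtype S).exists_cj_eq h1
  exact ⟨_, h.inv A hA g, cj_le_of_mem hAH (dcl_le H hg), e ▸ hS⟩

theorem le_normalizer_of_prime (hA : A ∈ D) {s : ℕ} (hs : s.Prime) (hsq : s ≠ q) (hP : IsPGroup s P)
    (hn : A ≤ 𝐍[P]) : P ≤ 𝐍[A] := fun x hx => by
  have hB := h.inv A hA x
  obtain ⟨e1, e2⟩ := h.line_eq hA hB
  have e3 : rad D (A ⊔ cj(x, A)) ≤ P := by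
    have : A ⊔ cj(x, A) ≤ P ⊔ A := sup_le le_sup_right (cj_le_of_mem le_sup_right (mem_sup_left hx))
    exact e1.le.trans ((commutator_mono this this).trans (api_comm_le hn (h.comm hA)))
  rw [(hP.disjoint_of_coprime (h.sm_line hA hB).1 ((Nat.coprime_primes hs h.qp).2 hsq)).eq_bot_of_ge e3,
    bot_sup_eq] at e2
  exact mem_normalizer_of_cj_le (le_sup_right.trans e2.ge)

end Pre

namespace Ce

variable {N : Subgroup G} (h : Ce p q D N) {A H M X : Subgroup G}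
include h

theorem normal_cases (K : Subgroup G) [K.Normal] : K = ⊥ ∨ N ≤ K := by
  have := h.ns
  refine (IsSimpleGroup.eq_bot_or_eq_top_of_normal (K.subgroupOf N) inferInstance).imp (fun e => ?_)
    subgroupOf_eq_top.1
  rw [eq_bot_iff, ← h.cent]
  exact fun x hx y hy =>
    (commute_of_normal_of_disjoint K N inferInstance h.nn (subgroupOf_eq_bot.1 e) x y hx hy).symm

theorem eq_bot_of_odd (K : Subgroup G) [K.Normal] (hK : Odd (Nat.card K)) : K = ⊥ :=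
  (h.normal_cases K).resolve_right fun e => by
    have := h.ns
    exact h.na ⟨⟨IsSimpleGroup.comm_iff_isSolvable.2
      (S0205.result (hK.of_dvd_nat (card_dvd_of_le e)))⟩⟩

theorem oddCore_eq_bot : oddCore G = ⊥ :=
  h.eq_bot_of_odd _ (Nat.coprime_two_right.1 (Grp.pPrimeCore_coprime 2 G))

theorem normalizer_ne_top (hX : IsPGroup q X) (h1 : X ≠ ⊥) : 𝐍[X] ≠ ⊤ := fun e =>
  have := normalizer_eq_top_iff.1 e
  h1 (h.eq_bot_of_odd X (h.odd_of_isPGroup hX))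

theorem cent_ne_top {x : G} (hx : x ≠ 1) : centralizer ({x} : Set G) ≠ ⊤ := fun e =>
  hx (mem_bot.1 (h.cent.le fun y _ => mem_centralizer_singleton_iff.1 (e.ge (mem_top y))))

theorem pResidual_eq_top : pResidual 2 G = ⊤ :=
  top_le_iff.1 (h.gen.ge.trans (sSup_le fun A hA _ hx => subset_closure
    (Nat.Coprime.coprime_dvd_left (h.card A hA ▸ A.orderOf_dvd_natCard hx)
      ((Nat.coprime_primes h.pp Nat.prime_two).2 h.p2))))

theorem le_of_two {T : Subgroup G} (hT : IsPGroup 2 T) : T ≤ N := fun x hx => by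
  have := h.nn
  obtain ⟨A, hA⟩ := h.ne
  obtain ⟨n, hn, a, ha, rfl⟩ := (mem_sup_of_le_normalizer_left (N := N) (H := A)
    (le_top.trans (normalizer_eq_top N).ge)).1 ((h.sup A hA).ge (mem_top x))
  obtain ⟨k, hk⟩ := isPGroup_iff.1 hT _ hx
  refine mem_of_pow_mem_of_coprime (n := p) ?_ (Nat.Coprime.coprime_dvd_left
    (orderOf_dvd_of_pow_eq_one hk) (((Nat.coprime_primes Nat.prime_two h.pp).2 h.p2.symm).pow_left k))
  rw [← QuotientGroup.eq_one_iff, QuotientGroup.mk_pow, QuotientGroup.mk_mul,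
    (QuotientGroup.eq_one_iff n).2 hn, one_mul, ← QuotientGroup.mk_pow, ← h.card A hA,
    orderOf_dvd_iff_pow_eq_one.1 (A.orderOf_dvd_natCard ha), QuotientGroup.mk_one]

theorem exists_inv : ∃ t : G, orderOf t = 2 := by
  refine exists_prime_orderOf_dvd_card' 2 ?_
  by_contra c
  obtain ⟨A, hA⟩ := h.ne
  exact h.ne_bot hA (le_bot_iff.1 (le_top.trans (h.eq_bot_of_odd ⊤ (by
    rwa [card_top, ← Nat.not_even_iff_odd, even_iff_two_dvd])).le))

theorem rad_pg (hH : H ≠ ⊤) : IsPGroup q (rad D H) := (h.sm H hH).1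

theorem dcl_eq (hH : H ≠ ⊤) (hA : A ∈ D) (hAH : A ≤ H) : dcl D H = rad D H ⊔ A :=
  ((h.sm H hH).2 A hA hAH).1

theorem rad_comm (hH : H ≠ ⊤) (hA : A ∈ D) (hAH : A ≤ H) : ⁅rad D H, A⁆ = rad D H :=
  ((h.sm H hH).2 A hA hAH).2

/-- `C_R(A)` is central in `R A`. -/
theorem cent_rad (hH : H ≠ ⊤) (hA : A ∈ D) (hAH : A ≤ H) : rad D H ⊓ 𝐂[A] ≤ 𝐂[dcl D H] := by
  have := h.n1 A hA _ (h.rad_pg hH) (hAH.trans (h.le_normalizer_rad H))
  rw [h.rad_comm hH hA hAH] at this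
  rw [h.dcl_eq hH hA hAH, centralizer_sup]
  exact le_inf this inf_le_right

theorem rad_cases (hH : H ≠ ⊤) (hA : A ∈ D) (hAH : A ≤ H) :
    rad D H ⊓ 𝐂[A] = ⊥ ∨ ⁅rad D H, rad D H⁆ ≤ 𝐂[A] := by
  have := h.n2 A hA _ (h.rad_pg hH) (hAH.trans (h.le_normalizer_rad H))
  rwa [h.rad_comm hH hA hAH] at this

/-- An `A`-invariant `q`-group normalising a block `M ∋ A` has `[X, A] ≤ rad M`. -/
theorem comm_le_rad_blk (hM : Blk D M) (hA : A ∈ D) (hAM : A ≤ M) (hX : IsPGroup q X)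
    (hn : A ≤ 𝐍[X]) (hXM : X ≤ 𝐍[M]) : ⁅X, A⁆ ≤ rad D M :=
  (h.comm_le_rad hA hX hn hXM (hAM.trans le_normalizer)).trans (rad_le_rad (hM.max _ (fun e => by
    have := normalizer_eq_top_iff.1 e
    exact (h.normal_cases M).elim (fun c => h.ne_bot hA (le_bot_iff.1 (hAM.trans c.le))) fun c =>
      hM.ne_top (top_le_iff.1 ((h.sup A hA).ge.trans (sup_le c hAM)))) le_normalizer))

theorem blk_eq (hM : Blk D M) (hA : A ∈ D) (hAM : A ≤ M) : M = rad D M ⊔ A :=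
  hM.eq.symm.trans (h.dcl_eq hM.ne_top hA hAM)

end Ce

end Cfsg.Agent.FrD
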