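import Mathlib
import Cfsg.Agent.FrD.Api

/-! S3257: the hypothesis passes to subgroups and to some quotients. -/

set_option autoImplicit false
set_option linter.unusedSectionVars false

namespace Cfsg.Agent.FrD

open Subgroup Cfsg Cfsg.Agent.PLocal.Amb
open scoped commutatorElement

variable {G : Type*} [Group G] [Finite G] {p q : ℕ} {D : Set (Subgroup G)}

/-- PROOF.  Push everything along `H.subtype` (`map_subtype_cj`, `Subgroup.map_sup`,
`map_commutator`, `centralizer_eq_subgroupOf`, `normalizer_eq_subgroupOf`, `card_map_of_injective`).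
`line`: take `Q.subgroupOf H`; `b = x * a` with `a, b ∈ H` gives `x ∈ H`. -/
theorem Hyp.sub (h : Hyp p q D) (H : Subgroup G) :
    Hyp p q {A : Subgroup H | A.map H.subtype ∈ D} := by
  have i := H.subtype_injective
  have n : ∀ {A P : Subgroup H}, A ≤ 𝐍[P] → A.map H.subtype ≤ 𝐍[P.map H.subtype] := fun hn =>
    (map_mono hn).trans (le_normalizer_map _)
  refine { h with card := ?_, inv := ?_, line := ?_, two := ?_, n1 := ?_, n2 := ?_ }
  · exact fun A hA => (card_map_of_injective i).symm.trans (h.card _ hA)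
  · exact fun A hA g => (congrArg (· ∈ D) (map_subtype_cj H g A)).mpr (h.inv _ hA g)
  · intro A hA B hB
    obtain ⟨Q, h1, h2, h3⟩ := h.line _ hA _ hB
    refine ⟨Q.subgroupOf H, isPGroup_subgroupOf h1 H,
      (map_le_iff_le_comap.1 h2).trans (le_normalizer_comap _), fun b hb => ?_⟩
    obtain ⟨x, hx, _, ⟨a, ha, rfl⟩, e⟩ := (mem_sup_of_le_normalizer_left h2).1 (h3 ⟨b, hb, rfl⟩)
    rw [← inv_mul_cancel_right b a]
    exact mul_mem_sup (mem_subgroupOf.2 ((congrArg (· ∈ Q) (mul_inv_eq_of_eq_mul e)).mpr hx)) ha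
  · intro A hA B hB A' hA' B' hB' ne h1 h2
    rw [← map_le_map_iff_of_injective i, Subgroup.map_sup] at h1 h2
    rw [← map_le_map_iff_of_injective i, Subgroup.map_sup, Subgroup.map_sup]
    exact h.two _ hA _ hB _ hA' _ hB' (fun e => ne (map_injective i e)) h1 h2
  · intro A hA P hP hn x hx
    have := h.n1 _ hA _ (hP.map _) (n hn)
    rw [← map_commutator] at this
    rw [centralizer_eq_subgroupOf] at hx ⊢
    exact this ⟨⟨x, hx.1, rfl⟩, hx.2⟩
  · intro A hA P hP hn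
    have := h.n2 _ hA _ (hP.map _) (n hn)
    rw [← map_commutator, ← map_commutator] at this
    rw [centralizer_eq_subgroupOf]
    exact this.imp (fun e => eq_bot_iff.2 fun x hx => i (e.le ⟨⟨x, hx.1, rfl⟩, hx.2⟩)) map_le_iff_le_comap.1

/-- PROOF.  If no point lies in `H`, `dcl D H = ⊥ = rad D H`.  Else take a point `A ≤ H`, `R` from
`hc (A.subgroupOf H)`, and `sm_of` with `P = R.map H.subtype`. -/
theorem Pre.sm_of_concl (h : Pre p q D) (H : Subgroup G)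
    (hc : Concl q {A : Subgroup H | A.map H.subtype ∈ D}) : Sm q D H := by
  by_cases e : ∃ A ∈ D, A ≤ H
  · obtain ⟨A, hA, hAH⟩ := e
    have m : ∀ B ∈ D, B ≤ H → (B.subgroupOf H).map H.subtype ∈ D := fun B hB hBH =>
      (map_subgroupOf_of_le hBH).symm ▸ hB
    obtain ⟨R, h1, h2, h3⟩ := hc (A.subgroupOf H) (m A hA hAH)
    refine h.sm_of hA (h2.map H.subtype) (hAH.trans (le_normalizer_map_subtype R)) hAH fun B hB hBH => ?_
    have := map_mono (f := H.subtype) (h3 _ (m B hB hBH))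
    rwa [Subgroup.map_sup, map_subgroupOf_of_le hBH, map_subgroupOf_of_le hAH] at this
  · exact ⟨IsPGroup.of_bot.to_le ((rad_le_dcl H).trans (dcl_le_iff.2 fun B hB hBH => (e ⟨B, hB, hBH⟩).elim)),
      fun A hA hAH => (e ⟨A, hA, hAH⟩).elim⟩

/-- Lifting `q`-subgroups.  PROOF.  `K` a `q`-group: `P = P'.comap π` (`IsPGroup.comap_of_ker_isPGroup`).
`K` central: `W = P'.comap π`; a Sylow `q`-subgroup `P` of `W` maps onto `P'` (`IsSyl.map`), so
`W = P ⊔ K ≤ 𝐍[P]`, `P = pCoreOf q W` (`IsSyl.eq_pCoreOf`), and `π g ∈ 𝐍[P']` gives `g ∈ 𝐍[W] ≤ 𝐍[P]`. -/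
theorem exists_lift (hq : q.Prime) (K : Subgroup G) [K.Normal] (hK : IsPGroup q K ∨ K ≤ center G)
    {P' : Subgroup (G ⧸ K)} (hP' : IsPGroup q P') : ∃ P : Subgroup G, IsPGroup q P ∧
      P.map (QuotientGroup.mk' K) = P' ∧ (𝐍[P']).comap (QuotientGroup.mk' K) ≤ 𝐍[P] := by
  have := Fact.mk hq
  obtain ⟨P, hP⟩ := exists_isSyl q (P'.comap (QuotientGroup.mk' K))
  have h1 := hP.map (QuotientGroup.mk' K)
  rw [map_comap_eq_self_of_surjective (QuotientGroup.mk'_surjective K)] at h1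
  replace h1 := h1.eq hP' h1.le le_rfl
  have h2 : P'.comap (QuotientGroup.mk' K) = P ⊔ K := by rw [h1, comap_map_eq, QuotientGroup.ker_mk']
  have h3 : K ≤ 𝐍[P] := hK.elim (fun hK => (hP.le_of_le_normalizer hK (h2 ▸ le_sup_right)
    le_normalizer_of_normal).trans le_normalizer) fun hK =>
      hK.trans ((center_le_centralizer _).trans (centralizer_le_normalizer' P))
  refine ⟨P, hP.pgrp, h1.symm, (le_normalizer_comap _).trans ?_⟩
  nth_rewrite 1 [← hP.eq_pCoreOf (h2 ▸ sup_le le_normalizer h3)]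
  exact normalizer_le_normalizer_pCoreOf _ _

theorem Pre.inh_pt (h : Pre p q D) (K : Subgroup G) [K.Normal] {A B L : Subgroup G} (hA : A ∈ D) (hB : B ∈ D)
    (hL : A ≤ L) (hle : B ≤ L ⊔ K) : ∃ k ∈ K, ∃ y ∈ L, B = cj(k * y, A) := by
  have := Fact.mk h.pp
  obtain ⟨T, hT, hAT⟩ := exists_isSyl_ge (h.pg hA) (hL.trans (le_sup_left (b := K)))
  obtain ⟨x, hx, e⟩ := hT.exists_le_cj (h.pg hB) hle
  obtain ⟨k, hk, y, hy, rfl⟩ := (mem_sup_of_le_normalizer_left le_normalizer_of_normal).1 (sup_comm L K ▸ hx)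
  exact ⟨k, hk, y, hy, h.eq_of_isPGroup hB (h.inv A hA _) (isPGroup_cj _ hT.pgrp) e (cj_mono _ hAT)⟩

/-- PROOF.  `card`: `A ⊓ K = ⊥`.  `inv`, `line`: `map_cj`, images.
`two`: first show that a point `A' ≤ (A ⊔ B) ⊔ K` has the same image as a point `A'' ≤ A ⊔ B`.
Let `L = A ⊔ B = Q ⊔ A`, `Q = rad D L` (`line_eq`, `sm_line`).  `K` a `q`-group: `exists_cj_of_le` with
`P = Q ⊔ K` gives `A' = cj(x, A)`, `x = k * y`, `y ∈ Q`, `A'' = cj(y, A)`.  `K` central: let `T` be a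
Sylow `p`-subgroup of `L ⊔ K` containing `A`; `A' ≤ cj(x, T)` with `x = y * k ∈ L ⊔ K`, so `A'` and
`cj(y, A) = cj(x, A)` lie in the `p`-group `cj(x, T)` and are equal (`eq_of_isPGroup`).
Then apply `h.two` to `A'', B''` (distinct, as their images are) and map.
`n1`, `n2`: lift `P'` to `P` by `exists_lift`; `R = ⁅P, A⁆` maps onto `⁅P', A'⁆`, and `R ⊓ 𝐂[A]` maps
onto `⁅P', A'⁆ ⊓ 𝐂[A']` (`Solv.coprime_fixed_coset` with `N = R ⊓ K`). -/
theorem Hyp.quot (h : Hyp p q D) (K : Subgroup G) [K.Normal] (hK : IsPGroup q K ∨ K ≤ center G)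
    (hKA : ∀ A ∈ D, A ⊓ K = ⊥) :
    Hyp p q ((fun A : Subgroup G => A.map (QuotientGroup.mk' K)) '' D) := by
  have s := QuotientGroup.mk'_surjective K
  have c : ∀ X : Subgroup G, (𝐂[X]).map (QuotientGroup.mk' K) ≤ 𝐂[X.map (QuotientGroup.mk' K)] := by
    rintro X _ ⟨x, hx, rfl⟩ _ ⟨y, hy, rfl⟩
    rw [← map_mul, hx y hy, map_mul]
  have l : ∀ A ∈ D, ∀ P' : Subgroup (G ⧸ K), IsPGroup q P' → A.map (QuotientGroup.mk' K) ≤ 𝐍[P'] →
      ∃ P : Subgroup G, IsPGroup q P ∧ A ≤ 𝐍[P] ∧ P.map (QuotientGroup.mk' K) = P' ∧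
        ⁅P', A.map (QuotientGroup.mk' K)⁆ ⊓ 𝐂[A.map (QuotientGroup.mk' K)] ≤
          (⁅P, A⁆ ⊓ 𝐂[A]).map (QuotientGroup.mk' K) := fun A hA P' hP' hn => by
    obtain ⟨P, h1, rfl, h3⟩ := exists_lift h.qp K hK hP'
    have h4 := (map_le_iff_le_comap.1 hn).trans h3
    refine ⟨P, h1, h4, rfl, ?_⟩
    rw [← map_commutator]
    rintro _ ⟨⟨x, hx : x ∈ ⁅P, A⁆, rfl⟩, hx'⟩
    have h5 : A ≤ 𝐍[⁅P, A⁆] := le_normalizer_commutator h4 le_normalizer
    have h6 : IsPGroup q ↥⁅P, A⁆ := h1.to_le (commutator_comm P A ▸ Solv.commutator_le_of_le_normalizer h4)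
    have := Fact.mk h.qp
    have := h6.isNilpotent
    obtain ⟨y, hy, e⟩ := Solv.coprime_fixed_coset A _ h5 (h.cop hA h6) (.inr inferInstance) (⁅P, A⁆ ⊓ K) inf_le_left
      (le_normalizer_inf h5 le_normalizer_of_normal) x hx fun a ha =>
        ⟨⁅P, A⁆.mul_mem (inv_mem hx) (conj_mem_of_mem_normalizer (h5 ha) hx), QuotientGroup.eq.1 (by
          have := hx' _ ⟨a, ha, rfl⟩
          rw [QuotientGroup.mk_mul, QuotientGroup.mk_inv, eq_mul_inv_iff_mul_eq]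
          exact this.symm)⟩
    exact ⟨y, hy, (QuotientGroup.eq.2 e.2).symm⟩
  refine { h with card := ?_, inv := ?_, line := ?_, two := ?_, n1 := ?_, n2 := ?_ }
  · rintro _ ⟨A, hA, rfl⟩
    refine ((Nat.dvd_prime h.pp).1 (h.card A hA ▸ card_map_dvd A _)).resolve_left fun e => h.ne_bot hA ?_
    rw [card_eq_one, Subgroup.map_eq_bot_iff, QuotientGroup.ker_mk'] at e
    rw [← hKA A hA, inf_of_le_left e]
  · rintro _ ⟨A, hA, rfl⟩ g
    obtain ⟨g, rfl⟩ := s g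
    exact ⟨_, h.inv A hA g, map_cj _ g A⟩
  · rintro _ ⟨A, hA, rfl⟩ _ ⟨B, hB, rfl⟩
    obtain ⟨Q, h1, h2, h3⟩ := h.line A hA B hB
    exact ⟨_, h1.map _, (map_mono h2).trans (le_normalizer_map _), (map_mono h3).trans (Subgroup.map_sup _ _ _).le⟩
  · rintro _ ⟨A, hA, rfl⟩ _ ⟨B, hB, rfl⟩ _ ⟨A', hA', rfl⟩ _ ⟨B', hB', rfl⟩ ne h1 h2
    have k : ∀ X ∈ D, X.map (QuotientGroup.mk' K) ≤ A.map (QuotientGroup.mk' K) ⊔ B.map (QuotientGroup.mk' K) →
        ∃ Y ∈ D, Y ≤ A ⊔ B ∧ X.map (QuotientGroup.mk' K) = Y.map (QuotientGroup.mk' K) := fun X hX e => by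
      rw [← Subgroup.map_sup, Subgroup.map_le_map_iff, QuotientGroup.ker_mk'] at e
      obtain ⟨k, hk, y, hy, rfl⟩ := h.inh_pt K hA hX le_sup_left e
      refine ⟨_, h.inv A hA y, cj_le_of_mem le_sup_left hy, ?_⟩
      rw [map_cj, map_cj, map_mul, show QuotientGroup.mk' K k = 1 from (QuotientGroup.eq_one_iff k).2 hk, one_mul]
    obtain ⟨X, hX, x1, x2⟩ := k A' hA' h1
    obtain ⟨Y, hY, y1, y2⟩ := k B' hB' h2
    simp only [x2, y2] at ne ⊢
    rw [← Subgroup.map_sup, ← Subgroup.map_sup]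
    exact map_mono (h.two A hA B hB X hX Y hY (fun e => ne (e ▸ rfl)) x1 y1)
  · rintro _ ⟨A, hA, rfl⟩ P' hP' hn
    obtain ⟨P, h1, h2, rfl, h4⟩ := l A hA P' hP' hn
    exact h4.trans ((map_mono (h.n1 A hA P h1 h2)).trans ((c _).trans_eq (by rw [map_commutator])))
  · rintro _ ⟨A, hA, rfl⟩ P' hP' hn
    obtain ⟨P, h1, h2, rfl, h4⟩ := l A hA P' hP' hn
    refine (h.n2 A hA P h1 h2).imp (fun e => eq_bot_iff.2 (h4.trans_eq (by rw [e, Subgroup.map_bot]))) fun e => ?_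
    simpa only [map_commutator] using (map_mono e).trans (c A)

/-- PROOF.  Lift the normal `q`-subgroup `R'` to a normal `q`-subgroup `R` (`exists_lift`); a point
`B` lies in `(R ⊔ A) ⊔ K`.  `K` a `q`-group: use `R ⊔ K`.  `K` central: as in `Hyp.quot`, `B` and
`cj(y, A)` lie in a common `p`-group for some `y ∈ R ⊔ A`, so `B = cj(y, A) ≤ R ⊔ A`. -/
theorem Pre.concl_of_quot (h : Pre p q D) (K : Subgroup G) [K.Normal]
    (hK : IsPGroup q K ∨ K ≤ center G)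
    (hc : Concl q ((fun A : Subgroup G => A.map (QuotientGroup.mk' K)) '' D)) : Concl q D := by
  intro A hA
  obtain ⟨R', h1, h2, h3⟩ := hc _ ⟨A, hA, rfl⟩
  obtain ⟨R, h4, rfl, h5⟩ := exists_lift h.qp K hK h2
  have : R.Normal := normalizer_eq_top_iff.1 (top_le_iff.1 fun g _ => h5 (le_normalizer_of_normal (mem_top _)))
  have h6 : ∀ B ∈ D, B ≤ R ⊔ A ⊔ K := fun B hB => by
    have := h3 _ ⟨B, hB, rfl⟩
    rwa [← Subgroup.map_sup, Subgroup.map_le_map_iff, QuotientGroup.ker_mk'] at this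
  rcases hK with hK | hK
  · exact ⟨R ⊔ K, inferInstance, isPGroup_sup h4 hK le_normalizer_of_normal, fun B hB =>
      (h6 B hB).trans_eq (sup_right_comm _ _ _)⟩
  refine ⟨R, this, h4, fun B hB => ?_⟩
  obtain ⟨k, hk, y, hy, rfl⟩ := h.inh_pt K hA hB le_sup_right (h6 B hB)
  rw [cj_mul, cj_of_mem_normalizer (centralizer_le_normalizer' _ (center_le_centralizer _ (hK hk)))]
  exact cj_le_of_mem le_sup_right hy

end Cfsg.Agent.FrD
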