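import Mathlib
import Cfsg.Agent.FrD.Inh
import Cfsg.Agent.FGS.SolvRad

/-! S3257: reduction to the almost simple case. -/

set_option autoImplicit false

namespace Cfsg.Agent.FrD

open Subgroup Cfsg Cfsg.Agent.PLocal.Amb
open scoped commutatorElement

universe u

section Aux

variable {G : Type*} [Group G] [Finite G]

omit [Finite G] in
theorem red_prime {A : Subgroup G} (hA : (Nat.card A).Prime) (X : Subgroup G) :
    A ⊓ X = ⊥ ∨ A ≤ X := by
  have := Fact.mk hA
  refine (X.subgroupOf A).eq_bot_or_eq_top_of_prime_card.imp (fun e => ?_) subgroupOf_eq_top.1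
  rw [inf_comm]
  exact disjoint_iff.1 (subgroupOf_eq_bot.1 e)

theorem red_solv (sol : ∀ K : Subgroup G, K.Normal → Group.IsSolvable K → K = ⊥) {N X : Subgroup G}
    [N.Normal] (h1 : X ≤ N) (h2 : N ≤ 𝐍[X]) (h3 : Group.IsSolvable X) : X = ⊥ := by
  have h4 := FGS.le_solvableRadical (normal_subgroupOf' h2)
    (FGS.isSolvable_comap N.subtype h3 (by rw [ker_subtype]; infer_instance))
  rw [eq_bot_iff, ← map_subgroupOf_of_le h1,
    ← sol _ inferInstance (FGS.isSolvable_solvableRadical G)]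
  exact (map_mono h4).trans (FGS.map_solvableRadical_le_of_normal N)

theorem red_simple {N : Subgroup G} [N.Normal] (h0 : N ≠ ⊥)
    (hmin : ∀ K : Subgroup G, K.Normal → K ≤ N → K = ⊥ ∨ K = N)
    (hX : ∀ X : Subgroup G, X ≤ N → N ≤ 𝐍[X] → Group.IsSolvable X → X = ⊥) {a : G}
    (ha : N ⊔ zpowers a = ⊤) (hodd : ∀ x : G, Odd (Nat.card ↥(zpowers a ⊔ cj(x, zpowers a)))) :
    IsSimpleGroup N := by
  have : Nontrivial N := (nontrivial_iff_ne_bot N).2 h0
  refine ⟨fun K hK => ?_⟩
  by_contra! k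
  obtain ⟨L₀, hn, h1, h2, h3⟩ := Grp.exists_minNormal_le K k.1
  have e0 := map_subtype_subgroupOf L₀
  have n1 := le_normalizer_map_subtype L₀
  have l1 := map_subtype_le L₀
  generalize L₀.map N.subtype = L at e0 n1 l1
  have b1 : L ≠ ⊥ := fun e => h1 (by rw [← e0, e, bot_subgroupOf])
  have l2 : cj(a, L) ≤ N := (cj_mono a l1).trans (cj_of_normal a N).le
  have n2 : N ≤ 𝐍[cj(a, L)] := by
    rw [normalizer_cj]
    exact (cj_of_normal a N).ge.trans (cj_mono a n1)
  have hd : L ⊓ cj(a, L) = ⊥ := by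
    rcases h3 _ (normal_subgroupOf' (le_normalizer_inf n1 n2))
      (e0 ▸ comap_mono inf_le_left) with e | e
    · rw [← map_subgroupOf_of_le (inf_le_left.trans l1 : L ⊓ cj(a, L) ≤ N), e, Subgroup.map_bot]
    · have h4 : L ≤ cj(a, L) := fun x hx =>
        (mem_inf.1 (mem_subgroupOf.1 (e.ge (e0.le (show (⟨x, l1 hx⟩ : N) ∈ L.subgroupOf N from hx))))).2
      have h5 : a ∈ 𝐍[L] := cj_eq_iff.1 (eq_of_le_of_card_ge h4 (card_cj a L).le).symm
      rcases hmin L (normalizer_eq_top_iff.1 (top_le_iff.1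
        (ha.ge.trans (sup_le n1 (zpowers_le.2 h5))))) l1 with e' | e'
      · exact absurd e' b1
      · rw [e', subgroupOf_self] at e0
        exact absurd (top_le_iff.1 (e0.le.trans h2)) k.2
  have hev : 2 ∣ Nat.card L := by
    by_contra e
    exact b1 (hX L l1 n1 (S0205.result (Nat.not_even_iff_odd.1 fun c => e c.two_dvd)))
  obtain ⟨⟨x, hx⟩, ho⟩ := exists_prime_orderOf_dvd_card' 2 hev
  rw [orderOf_mk] at ho
  have hx' := conj_mem_cj a hx
  have xx : x * x = 1 := by rw [← pow_two, ← ho, pow_orderOf_eq_one]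
  have xi : x⁻¹ = x := inv_eq_of_mul_eq_one_left xx
  have hc : Commute x (a * x * a⁻¹) := commutatorElement_eq_one_iff_commute.1 (mem_bot.1 (hd.le
    (le_inf (le_normalizer_iff_commutator_le_left.1 (l2.trans n1))
      (le_normalizer_iff_commutator_le_right.1 (l1.trans n2)) (commutator_mem_commutator hx hx'))))
  have hy : orderOf (x * (a * x * a⁻¹)) = 2 := orderOf_eq_prime
    (by rw [hc.mul_pow, conj_pow, pow_two, xx]; simp) fun e => by
      have h4 : x = 1 := mem_bot.1 (hd.le (mem_inf.2 ⟨hx, by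
        rw [eq_inv_of_mul_eq_one_left e]; exact inv_mem hx'⟩))
      rw [h4, orderOf_one] at ho
      omega
  have hm : x * (a * x * a⁻¹) ∈ zpowers a ⊔ cj(x, zpowers a) := by
    rw [show x * (a * x * a⁻¹) = x * a * x⁻¹ * a⁻¹ by rw [xi]; group]
    exact mul_mem (mem_sup_right (conj_mem_cj x (mem_zpowers a))) (mem_sup_left (inv_mem (mem_zpowers a)))
  exact (hodd x).not_two_dvd_nat (hy ▸ orderOf_dvd_natCard _ hm)

end Aux

/-- PROOF.  (0) `sm : H ≠ ⊤ → Sm q D H` by `Hyp.sub`, `ih`, `sm_of_concl`.  Assume `¬ Concl`, so `D` is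
nonempty and not a singleton (`R = ⊥`).
(1) `H = sSup D = dcl D ⊤` is normal (`dcl_cj`); if `H ≠ ⊤`, `R = rad D H` (normal, `dcl D H = H`)
gives `Concl`.  So `sSup D = ⊤`.
(2) No normal `K ≠ ⊥` is a `q`-group or central: if `A ⊓ K ≠ ⊥` for a point then `A ≤ K` (order `p`),
`K` is central (`inf_eq_bot`), every point `B ≤ 𝐍[A]` equals `A`: singleton.  Else `Hyp.quot`, `ih`,
`concl_of_quot`.
(3) No normal `K ≠ ⊥` is an `s`-group, `s` prime: `s ≠ q` by (2), `K ≤ 𝐍[A]` for all points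
(`le_normalizer_of_prime`), `⁅K, A⁆ ≤ K ⊓ A`; if `A ≤ K` then `s = p` and all points (conjugates,
`exists_cj` on a line) lie in the `p`-group `K`: singleton.  Else `K` centralises all points, so is
central.  Hence no normal `K ≠ ⊥` is solvable (solvable radical / last derived term / `pCore`;
see `Grp` lemmas on `solvableRadical`, `exists_pCore_ne_bot`).
(4) Let `N` be a minimal normal subgroup; it is not solvable, so not commutative, and a solvable
subgroup `X` normalised by `N`, `X ≤ N`, is trivial (the solvable radical of `N` is normal in `G`).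
If `N ⊔ A ≠ ⊤` then `⁅N, A⁆ ≤ dcl D (N ⊔ A)` (`comm_le_dcl`) has odd order (`odd_dcl`), is solvable
(S0205) and normalised by `N`, so `N ≤ 𝐂[A]`; conjugating, `N` centralises all points, is central,
against (2).  So `N ⊔ A = ⊤` for all points.
(5) `𝐂[N] ⊓ N = ⊥` (solvable); `G ⧸ N` is commutative, so for `c ∈ 𝐂[N]`, `⁅c, g⁆ ∈ 𝐂[N] ⊓ N = ⊥`;
`𝐂[N]` is central, so `⊥` by (2).
(6) `N` is simple: else take `L` minimal among nontrivial subgroups of `N` normalised by `N`, `L ≠ N`.
With `A = zpowers a`, `L' = cj(a, L) ≠ L` (else `L` is normal in `N ⊔ A = ⊤`), `L'` is minimal too, so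
`L ⊓ L' = ⊥` and `⁅L, L'⁆ = ⊥`.  `L` is not solvable, so has an involution `x` (S0205); `x' = a x a⁻¹ ∈ L'`
commutes with `x`, `x' ≠ x`, so `y = x * x' = (x * a * x⁻¹) * a⁻¹` is an involution in
`A ⊔ cj(x, A)`, which has odd order (`odd_dcl (sm_line ..)`, `dcl_sup`). -/
theorem Hyp.red {G : Type u} [Group G] [Finite G] {p q : ℕ} {D : Set (Subgroup G)} (h : Hyp p q D)
    (ih : ∀ (G' : Type u) [Group G'] [Finite G'] (D' : Set (Subgroup G')),
      Nat.card G' < Nat.card G → Hyp p q D' → Concl q D') :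
    Concl q D ∨ ∃ N, Ce p q D N := by
  refine or_iff_not_imp_left.2 fun hc => ?_
  have sm : ∀ H : Subgroup G, H ≠ ⊤ → Sm q D H := fun H hH =>
    h.toPre.sm_of_concl H (ih H _ (Grp.card_lt_of_ne_top hH) (h.sub H))
  have sing : ∀ A, ¬ ∀ B ∈ D, A = B := fun A k => hc fun A' hA' =>
    ⟨⊥, inferInstance, IsPGroup.of_bot, fun B hB => by rw [← k B hB, k A' hA']; exact le_sup_right⟩
  obtain ⟨A₀, hA₀⟩ : D.Nonempty := by
    by_contra k
    exact hc fun A hA => absurd ⟨A, hA⟩ k
  have gen : sSup D = ⊤ := by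
    by_contra k
    have hH : dcl D ⊤ ≠ ⊤ := fun e => k (top_le_iff.1 (e.ge.trans (dcl_le_iff.2 fun B hB _ => le_sSup hB)))
    obtain ⟨h1, h2⟩ := sm _ hH
    refine hc fun A hA => ⟨rad D (dcl D ⊤), normalizer_eq_top_iff.1 (top_le_iff.1
      ((h.le_normalizer_dcl ⊤).trans (h.normalizer_le_rad _))), h1, fun B hB => ?_⟩
    rw [← (h2 A hA (le_dcl hA le_top)).1]
    exact le_dcl hB (le_dcl hB le_top)
  have allK : ∀ K : Subgroup G, K.Normal → ∀ A ∈ D, A ≤ K → K = ⊤ := fun K _ A hA hAK =>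
    top_le_iff.1 (gen.ge.trans (sSup_le fun B hB => by
      obtain ⟨x, -, rfl⟩ := h.exists_cj (h.sm_line hA hB) hA hB le_sup_left le_sup_right
      exact (cj_mono x hAK).trans (cj_of_normal x K).le))
  have noK : ∀ K : Subgroup G, K.Normal → (IsPGroup q K ∨ K ≤ center G) → K = ⊥ := fun K _ hK => by
    by_contra k
    refine hc (h.concl_of_quot K hK (ih _ _ (Grp.card_quotient_lt K k) (h.quot K hK fun A hA => ?_)))
    rcases hK with hK | hK
    · rw [inf_comm]; exact h.inf_eq_bot hA hK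
    · refine (red_prime (h.card A hA ▸ h.pp) K).resolve_right fun e => sing A fun B hB => ?_
      exact h.eq_of_le_normalizer hA hB ((show B ≤ 𝐂[A] from fun b _ a ha =>
        (mem_center_iff.1 (hK (e ha)) b).symm).trans (centralizer_le_normalizer' A))
  have cen : ∀ K : Subgroup G, K.Normal → ∀ A ∈ D, ⁅K, A⁆ = ⊥ → K = ⊥ := fun K hK A hA e =>
    noK K hK (Or.inr (centralizer_eq_top_iff_subset.1 (allK _ inferInstance A hA
      (commutator_eq_bot_iff_le_centralizer.1 (by rwa [commutator_comm])))))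
  have sol : ∀ K : Subgroup G, K.Normal → Group.IsSolvable K → K = ⊥ := fun K _ _ => by
    by_contra k
    obtain ⟨s, M, hs, hn, h0, -, -, -, hM, -⟩ := Grp.exists_minNormal_elementaryAbelian_le K k
    by_cases e : s = q
    · exact h0 (noK M hn (Or.inl (e ▸ hM)))
    have h1 := h.le_normalizer_of_prime hA₀ hs e hM le_normalizer_of_normal
    rcases red_prime (h.card A₀ hA₀ ▸ h.pp) M with h2 | h2
    · refine h0 (cen M hn A₀ hA₀ (eq_bot_iff.2 (le_trans ?_ h2.le)))
      exact le_inf (le_normalizer_iff_commutator_le_right.1 h1) (commutator_le_left _ _)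
    · exact sing A₀ fun B hB => h.eq_of_le_normalizer hA₀ hB
        ((le_top.trans (allK M hn A₀ hA₀ h2).ge).trans h1)
  have : Nontrivial G := by
    by_contra k
    exact h.ne_bot hA₀ (@eq_bot_of_subsingleton _ _ _ (by
      have := not_nontrivial_iff_subsingleton.1 k; infer_instance))
  obtain ⟨N, hN, h0, hmin⟩ := Grp.exists_minNormal G
  have sup : ∀ A ∈ D, N ⊔ A = ⊤ := fun A hA => by
    by_contra k
    refine h0 (cen N hN A hA (red_solv sol (commutator_le_left N A)
      (Solv.le_normalizer_commutator_left N A) ?_))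
    exact FGS.isSolvable_of_le (h.comm_le_dcl hA le_sup_left le_sup_right)
      (S0205.result (h.odd_dcl (sm _ k)))
  obtain ⟨a, -, ha⟩ := h.exists_gen hA₀
  refine ⟨N, h, ⟨A₀, hA₀⟩, gen, hN, red_simple h0 hmin (fun X => red_solv sol) (a := a)
    (ha ▸ sup A₀ hA₀) fun x => ?_, fun k => h0 (sol N hN (Group.isSolvable_of_comm k.is_comm.comm)), sup, ?_, sm⟩
  · have h1 := h.odd_dcl (h.sm_line hA₀ (h.inv A₀ hA₀ x))
    rwa [dcl_sup hA₀ (h.inv A₀ hA₀ x), ← ha] at h1
  · have h1 : 𝐂[N] ⊓ N = ⊥ := sol _ inferInstance (Group.isSolvable_of_comm fun b c =>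
      Subtype.ext ((mem_inf.1 b.2).1 c (mem_inf.1 c.2).2).symm)
    have h2 : _root_.commutator G ≤ N := Subgroup.Normal.commutator_le_of_self_sup_commutative_eq_top
      (sup A₀ hA₀) (ha ▸ inferInstance)
    exact cen _ inferInstance A₀ hA₀ (eq_bot_iff.2 (le_trans (le_inf (commutator_le_left _ _)
      ((commutator_mono le_top le_top).trans h2)) h1.le))

end Cfsg.Agent.FrD
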