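import Mathlib
import Cfsg.Agent.FrD.Api
import Cfsg.Agent.S0119

/-! S3257, step B0: invariant `q`-subgroups. -/

set_option autoImplicit false
set_option linter.unusedSectionVars false

namespace Cfsg.Agent.FrD

open Subgroup Cfsg Cfsg.Agent.PLocal.Amb
open scoped commutatorElement

theorem b0_pow {R : Type*} [Group R] {θ : MulAut R} {x z : R} (hz : θ z = z) (h : θ x = x * z)
    (i : ℕ) : (θ ^ i) x = x * z ^ i := by
  induction i with
  | zero => simp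
  | succ i ih => rw [pow_succ', MulAut.mul_apply, ih, map_mul, map_pow, hz, h, pow_succ', mul_assoc]

theorem b0_surj {R : Type*} [Group R] [Finite R] (θ : MulAut R) (Z : Subgroup R) [Z.Normal]
    (h : ∀ x, x⁻¹ * θ x ∈ Z → x ∈ Z) (r : R) : ∃ x, ∃ z ∈ Z, r = x⁻¹ * θ x * z := by
  obtain ⟨x, hx⟩ := Finite.surjective_of_injective
    (f := fun x : R ⧸ Z => ((x.out⁻¹ * θ x.out : R) : R ⧸ Z)) (fun a b e => by
      have := (QuotientGroup.eq_one_iff _).2 (h (a.out * b.out⁻¹) ((QuotientGroup.eq_one_iff _).1 (by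
        rw [show (a.out * b.out⁻¹)⁻¹ * θ (a.out * b.out⁻¹) =
          b.out * (a.out⁻¹ * θ a.out) * (θ b.out)⁻¹ by simp [mul_assoc],
          QuotientGroup.mk_mul, QuotientGroup.mk_mul, show ((a.out⁻¹ * θ a.out : R) : R ⧸ Z) = _ from e]
        simp)))
      simpa [mul_inv_eq_one] using this) r
  exact ⟨x.out, _, QuotientGroup.eq.1 hx, (mul_inv_cancel_left _ _).symm⟩

/-- PROOF.  Induction on `|R|` (for all `R : Type u`).  Suppose `φ c = c`, `c ≠ 1`.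
For a nontrivial normal `φ`-invariant `K` the hypotheses pass to `R ⧸ K` (induced automorphism,
`φ ^ p = 1`), so by induction `φ` fixes no nontrivial coset: every `x` with `x⁻¹ * φ x ∈ K` lies in `K`.
Let `Z = center R ≠ ⊥`.  `K = {z⁻¹ * φ z | z ∈ Z}` is a normal invariant subgroup.  If `K ≠ ⊥` then
`c ∈ K`, `c = z⁻¹ * φ z`, so `φ ^ i z = z * c ^ i`, `c ^ p = 1`, `c = 1` (`q`-element).  So `φ` fixes
`Z` pointwise.  On `R ⧸ Z` the map `x ↦ x⁻¹ φ x` is injective, so surjective: every `r` is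
`(x⁻¹ * φ x) * z`, so `r` commutes with `φ r` for EVERY `r`.  Likewise `φ ^ 2` fixes no nontrivial
coset of `Z` (`p` odd: `φ` is a power of `φ ^ 2`), so every element is `s⁻¹ * φ (φ s) * z`.
`Z ≠ ⊤` (else `φ = 1` and `hgen` gives `R = 1`), so there is `u ∉ Z` with `⁅u, r⁆ ∈ Z` for all `r`
(centre of the `q`-group `R ⧸ Z`); `β r = ⁅u, r⁆` is a homomorphism `R → Z`, also `⁅φ u, r⁆ ∈ Z`.
Expanding `Commute (u * r) (φ u * φ r)` with `Commute u (φ u)`, `Commute r (φ r)` gives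
`⁅u, φ r⁆ = ⁅φ u, r⁆`.  Put `r = φ s`: `⁅φ u, φ s⁆ = φ ⁅u, s⁆ = ⁅u, s⁆`, so `β (φ (φ s)) = β s`,
`u` commutes with all `s⁻¹ * φ (φ s)`, so `u ∈ Z`, contradiction. -/
theorem fix_eq_one {R : Type*} [Group R] [Finite R] {p q : ℕ} (hp : p.Prime) (hp2 : p ≠ 2)
    (hq : q.Prime) (hpq : p ≠ q) (hR : IsPGroup q R) (φ : MulAut R) (hφ : φ ^ p = 1)
    (hgen : closure {y : R | ∃ x, y = x⁻¹ * φ x} = ⊤)
    (hc : ∀ x : R, Commute (x⁻¹ * φ x) (φ (x⁻¹ * φ x))) (c : R) (hfix : φ c = c) : c = 1 := by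
  have := Fact.mk hq
  induction hn : Nat.card R using Nat.strong_induction_on generalizing R with | _ n ih => ?_
  by_contra hc1
  have key : ∀ K : Subgroup R, K.Normal → K ≠ ⊥ → (∀ x ∈ K, φ x ∈ K) →
      ∀ x, x⁻¹ * φ x ∈ K → x ∈ K := fun K _ hK hφK x hx => by
    let ψ : MulAut (R ⧸ K) := QuotientGroup.congr K K φ (eq_of_le_of_card_ge
      (map_le_iff_le_comap.2 hφK) (card_map_of_injective φ.injective).ge)
    have e : ∀ (j : ℕ) (x : R), (ψ ^ j) x = ((φ ^ j) x : R) := fun j => by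
      induction j with
      | zero => exact fun _ => rfl
      | succ j ih => exact fun x => by rw [pow_succ, pow_succ]; exact ih (φ x)
    refine (QuotientGroup.eq_one_iff x).1 (ih _ ?_ (hR.to_quotient K) ψ
      (MulEquiv.ext fun y => ?_) (eq_top_iff.2 ?_) (fun y => ?_) x (QuotientGroup.eq.2 hx).symm rfl)
    · exact ((Nat.lt_mul_iff_one_lt_right K.index_ne_zero_of_finite.bot_lt).2
        (K.one_lt_card_iff_ne_bot.2 hK)).trans_eq (K.index_mul_card.trans hn)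
    · obtain ⟨y, rfl⟩ := QuotientGroup.mk_surjective y
      rw [e, hφ]; rfl
    · rw [← map_top_of_surjective _ (QuotientGroup.mk'_surjective K), ← hgen, MonoidHom.map_closure]
      exact closure_mono (by rintro _ ⟨_, ⟨y, rfl⟩, rfl⟩; exact ⟨y, rfl⟩)
    · obtain ⟨y, rfl⟩ := QuotientGroup.mk_surjective y
      exact (hc y).map (QuotientGroup.mk' K)
  have φZ : ∀ z ∈ center R, φ z ∈ center R := fun z hz =>
    characteristic_iff_le_comap.1 centerCharacteristic φ hz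
  have fZ : ∀ z ∈ center R, φ z = z := by
    let K : Subgroup R :=
      { carrier := {y | ∃ z ∈ center R, y = z⁻¹ * φ z}
        one_mem' := ⟨1, one_mem _, by simp⟩
        mul_mem' := by
          rintro _ _ ⟨z, hz, rfl⟩ ⟨w, hw, rfl⟩
          exact ⟨z * w, mul_mem hz hw, by
            rw [← mul_assoc, mem_center_iff.1 (inv_mem hw), map_mul]; group⟩
        inv_mem' := by
          rintro _ ⟨z, hz, rfl⟩
          exact ⟨z⁻¹, inv_mem hz, by rw [mul_inv_rev, inv_inv, mem_center_iff.1 hz, map_inv]⟩ }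
    by_cases hK : K = ⊥
    · exact fun z hz => (inv_mul_eq_one.1 (mem_bot.1 (hK.le ⟨z, hz, rfl⟩))).symm
    obtain ⟨z, -, e⟩ := key K ⟨by
        rintro _ ⟨z, hz, rfl⟩ g
        exact ⟨z, hz, by rw [mem_center_iff.1 (mul_mem (inv_mem hz) (φZ z hz)), mul_inv_cancel_right]⟩⟩
      hK (by rintro _ ⟨z, hz, rfl⟩; exact ⟨φ z, φZ z hz, by simp⟩) c (by simp [hfix])
    have := b0_pow hfix (eq_inv_mul_iff_mul_eq.1 e).symm p
    obtain ⟨k, hk⟩ := hR c
    have := pow_gcd_eq_one.2 ⟨hk, by simpa [hφ] using this⟩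
    rw [((Nat.coprime_primes hq hp).2 hpq.symm).pow_left k, pow_one] at this
    exact absurd this hc1
  have : Nontrivial R := ⟨c, 1, hc1⟩
  have k1 := key (center R) inferInstance hR.bot_lt_center.ne' φZ
  have k2 : ∀ x, x⁻¹ * (φ ^ 2) x ∈ center R → x ∈ center R := fun x hx => k1 x (by
    obtain ⟨k, hk⟩ := hp.odd_of_ne_two hp2
    have := b0_pow (θ := φ ^ 2) ((fZ _ (φZ _ hx)).trans (fZ _ hx)) (mul_inv_cancel_left x _).symm (k + 1)
    rw [← pow_mul, show 2 * (k + 1) = p + 1 by omega, pow_succ, hφ, one_mul] at this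
    rw [this, inv_mul_cancel_left]
    exact pow_mem hx _)
  have cm : ∀ r, Commute r (φ r) := fun r => by
    obtain ⟨x, z, hz, rfl⟩ := b0_surj φ _ k1 r
    have c : ∀ g, Commute g z := mem_center_iff.1 hz
    rw [map_mul φ _ z, fZ z hz]
    exact ((hc x).mul_left (c _).symm).mul_right (c _)
  have : Nontrivial (R ⧸ center R) := QuotientGroup.nontrivial_iff.2 fun h => hc1 (mem_bot.1
    ((closure_le ⊥).2 (by rintro _ ⟨x, rfl⟩; simp [fZ x (h.ge trivial)]) (hgen.ge trivial)))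
  obtain ⟨⟨u, hu⟩, hu1⟩ := (ne_bot_iff_exists_ne_one).1 (hR.to_quotient (center R)).bot_lt_center.ne'
  obtain ⟨u, rfl⟩ := QuotientGroup.mk_surjective u
  have uZ : ∀ r, ⁅u, r⁆ ∈ center R := fun r => (QuotientGroup.eq_one_iff _).1
    (commutatorElement_eq_one_iff_mul_comm.2 (mem_center_iff.1 hu r).symm)
  refine hu1 (Subtype.ext ((QuotientGroup.eq_one_iff u).2 (mem_center_iff.2 fun r => ?_)))
  obtain ⟨s, z, hz, rfl⟩ := b0_surj (φ ^ 2) _ k2 r
  refine (Commute.mul_right ?_ (mem_center_iff.1 hz u)).symm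
  have e1 : ⁅φ u, φ s⁆ = ⁅u, s⁆ := by rw [← map_commutatorElement, fZ _ (uZ s)]
  have e2 : ⁅u, s⁆ = ⁅u, φ (φ s)⁆ := by
    have := (cm (u * φ s)).eq
    rw [map_mul, show u * φ s * (φ u * φ (φ s)) = u * (⁅φ u, φ s⁆⁻¹ * (φ u * φ s * φ (φ s))) by
        rw [commutatorElement_inv, commutatorElement_def]; group,
      show φ u * φ (φ s) * (u * φ s) = φ u * (⁅u, φ (φ s)⁆⁻¹ * (u * φ (φ s) * φ s)) by
        rw [commutatorElement_inv, commutatorElement_def]; group,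
      e1, ← mul_assoc u, ← mul_assoc (φ u), mem_center_iff.1 (inv_mem (uZ s)),
      mem_center_iff.1 (inv_mem (uZ (φ (φ s))))] at this
    simp only [mul_assoc, ← (cm (φ s)).eq] at this
    rw [← mul_assoc u, ← mul_assoc (φ u), (cm u).eq] at this
    exact inv_injective (mul_right_cancel this)
  rw [pow_two, MulAut.mul_apply]
  have e3 : s * u⁻¹ * s⁻¹ = φ (φ s) * u⁻¹ * (φ (φ s))⁻¹ :=
    mul_left_cancel (a := u) (by simpa only [commutatorElement_def, mul_assoc] using e2)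
  refine Commute.inv_left_iff.1 ?_
  calc u⁻¹ * (s⁻¹ * φ (φ s)) = s⁻¹ * (s * u⁻¹ * s⁻¹) * φ (φ s) := by group
    _ = _ := by rw [e3]; group

variable {G : Type*} [Group G] [Finite G] {p q : ℕ} {D : Set (Subgroup G)}

theorem b0_gen {R : Subgroup G} {a : G} (ha : a ∈ 𝐍[R]) (hR : ⁅R, zpowers a⁆ = R) :
    closure {y : R | ∃ x, y = x⁻¹ * R.normalizerMonoidHom ⟨a, ha⟩ x} = ⊤ := by
  refine map_injective R.subtype_injective (le_antisymm (map_mono le_top) ?_)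
  rw [← MonoidHom.range_eq_map, range_subtype]
  refine hR.ge.trans (commutator_le.2 fun x hx b hb => ?_)
  obtain ⟨i, rfl⟩ := mem_powers_iff_mem_zpowers.2 hb
  refine ⟨(⟨x, hx⟩⁻¹ : R)⁻¹ * (R.normalizerMonoidHom ⟨a, ha⟩ ^ i) ⟨x, hx⟩⁻¹, ?_, by
    rw [← map_pow, inv_inv]; exact (mul_assoc _ _ _).symm.trans (by rw [← mul_assoc]; rfl)⟩
  induction i with
  | zero => simp
  | succ i ih =>
    rw [pow_succ', MulAut.mul_apply, ← mul_inv_cancel_left
      ((R.normalizerMonoidHom ⟨a, ha⟩ ^ i) ⟨x, hx⟩⁻¹) (R.normalizerMonoidHom _ _), ← mul_assoc]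
    exact mul_mem (ih (pow_mem (mem_zpowers a) i)) (subset_closure ⟨_, rfl⟩)

theorem b0_ord {R : Subgroup G} {a : G} (ha : a ∈ 𝐍[R]) :
    R.normalizerMonoidHom ⟨a, ha⟩ ^ orderOf a = 1 := by
  rw [← map_pow, show (⟨a, ha⟩ : 𝐍[R]) ^ orderOf a = 1 from Subtype.ext (pow_orderOf_eq_one a), map_one]

/-- PROOF.  `R = ⁅P, A⁆ = ⁅R, A⁆` (`comm_comm`), `A = zpowers a` (`exists_gen`), `φ` = conjugation
`x ↦ a * x * a⁻¹` on `↥R`.  `hgen`: the subgroup `Y` generated by the `x⁻¹ * φ x` is `φ`-invariant and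
`x⁻¹ * φ ^ (i + 1) x = (x⁻¹ * φ x) * φ (x⁻¹ * φ ^ i x)`, so `⁅R, A⁆ ≤ Y`.  `hc`: `y = x⁻¹ * a * x * a⁻¹`
lies in `⁅L, L⁆` for `L = A ⊔ cj(x⁻¹, A)`: `L' = rad D L` is a `q`-group with `L = L' ⊔ A`
(`line_eq`, `sm_line`), `y ∈ L` is a `q`-element, `y = l * b` with `b ∈ A` forces `b = 1` (in
`L ⧸ L'`, or: `L' ⊔ zpowers y` is a `q`-group containing `b`, `inf_eq_bot`).  `φ y ∈ L'` too and `L'`
is commutative by `h0`. -/
theorem Pre.nice0 (h : Pre p q D)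
    (h0 : ∀ A ∈ D, ∀ B ∈ D, ⁅⁅A ⊔ B, A ⊔ B⁆, ⁅A ⊔ B, A ⊔ B⁆⁆ = ⊥) {A : Subgroup G} (hA : A ∈ D)
    {P : Subgroup G} (hP : IsPGroup q P) (hn : A ≤ 𝐍[P]) : ⁅P, A⁆ ⊓ 𝐂[A] = ⊥ := by
  obtain ⟨a, ho, rfl⟩ := h.exists_gen hA
  have := Fact.mk h.qp
  have hR : IsPGroup q ↥⁅P, zpowers a⁆ := hP.to_le (Solv.commutator_le_of_le_normalizer hn)
  have ha := le_normalizer_commutator hn le_normalizer (mem_zpowers a)
  refine eq_bot_iff.2 fun c hc => congrArg Subtype.val (fix_eq_one h.pp h.p2 h.qp h.pq hR _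
    (ho ▸ b0_ord ha) (b0_gen ha (h.comm_comm hA hP hn)) (fun x => ?_) ⟨c, hc.1⟩
    (Subtype.ext (mul_inv_eq_iff_eq_mul.2 (hc.2 a (mem_zpowers a)))))
  have hB := h.inv _ hA (x : G)⁻¹
  obtain ⟨e1, e2⟩ := h.line_eq hA hB
  have hL := le_sup_left.trans (h.le_normalizer_rad (zpowers a ⊔ cj((x : G)⁻¹, zpowers a)))
  have hy : (x : G)⁻¹ * (a * x * a⁻¹) ∈ zpowers a ⊔ cj((x : G)⁻¹, zpowers a) := by
    simpa [mul_assoc] using mul_mem (mem_sup_right (conj_mem_cj (x : G)⁻¹ (mem_zpowers a)))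
      (mem_sup_left (inv_mem (mem_zpowers a)))
  obtain ⟨l, hl, b, hb, e⟩ := (mem_sup_of_le_normalizer_left hL).1 (e2.ge hy)
  have b1 : b = 1 := mem_bot.1 ((h.inf_eq_bot hA (isPGroup_sup (isPGroup_zpowers
      (isPGroup_iff.1 hR _ (x⁻¹ * normalizerMonoidHom _ ⟨a, ha⟩ x).2)) (h.sm_line hA hB).1
      (zpowers_le.2 (h.le_normalizer_rad _ hy)))).le ⟨eq_inv_mul_of_mul_eq e.symm ▸
        mul_mem (mem_sup_right (inv_mem hl)) (mem_sup_left (mem_zpowers _)), hb⟩)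
  rw [b1, mul_one] at e
  rw [← e] at hl
  exact Subtype.ext (commutator_eq_bot_iff_le_centralizer.1 (e1 ▸ h0 _ hA _ hB)
    (conj_mem_of_mem_normalizer (hL (mem_zpowers a)) hl) _ hl)

/-- PROOF.  `A` centralises every commutative `A`-invariant `q`-subgroup `X`: for `x ∈ X`, if
`B = cj(x, A) ≠ A` then `L = A ⊔ B ≤ X ⊔ A`, so `⁅L, L⁆ ≤ X` (`A` is commutative and normalises `X`),
`⁅⁅L, L⁆, ⁅L, L⁆⁆ = ⊥`, against `h1`; so `x ∈ 𝐍[A]`, `cent_of_norm`.  Apply S0119 to `↥R`,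
`R = ⁅P, A⁆ = ⁅R, A⁆`, and the image of `A` in `MulAut R` (`normalizerMonoidHom`): `R` is special
(`commutator R = center R`) and `center R` = fixed points of `A`. -/
theorem Pre.nice1 (h : Pre p q D)
    (h1 : ∀ A ∈ D, ∀ B ∈ D, A ≠ B → ⁅⁅A ⊔ B, A ⊔ B⁆, ⁅A ⊔ B, A ⊔ B⁆⁆ ≠ ⊥) {A : Subgroup G}
    (hA : A ∈ D) {P : Subgroup G} (hP : IsPGroup q P) (hn : A ≤ 𝐍[P]) :
    ⁅P, A⁆ ⊓ 𝐂[A] ≤ 𝐂[⁅P, A⁆] ∧ ⁅⁅P, A⁆, ⁅P, A⁆⁆ ≤ 𝐂[A] := by
  obtain ⟨a, ho, rfl⟩ := h.exists_gen hA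
  have := Fact.mk h.qp
  have key : ∀ X : Subgroup G, IsPGroup q X → zpowers a ≤ 𝐍[X] → X ≤ 𝐂[X] → X ≤ 𝐂[zpowers a] :=
    fun X hX hn hc x hx => h.cent_of_norm hA hX hn hx (cj_eq_iff.1 (by_contra fun hne => by
      have l1 : zpowers a ⊔ cj(x, zpowers a) ≤ X ⊔ zpowers a :=
        sup_le le_sup_right (cj_le_of_mem le_sup_right (mem_sup_left hx))
      have l2 : ⁅X ⊔ zpowers a, X ⊔ zpowers a⁆ ≤ X := commutator_le.2 fun g hg g' hg' => by
        obtain ⟨u, hu, b, hb, rfl⟩ := (mem_sup_of_le_normalizer_left hn).1 hg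
        obtain ⟨u', hu', b', hb', rfl⟩ := (mem_sup_of_le_normalizer_left hn).1 hg'
        rw [show ⁅u * b, u' * b'⁆ = u * (b * u' * b⁻¹) * (b * b' * b⁻¹ * u⁻¹ * b'⁻¹) * u'⁻¹ by
          rw [commutatorElement_def]; group, h.comm hA hb' b hb, mul_inv_cancel_right]
        exact mul_mem (mul_mem (mul_mem hu (conj_mem_of_mem_normalizer (hn hb) hu'))
          (conj_mem_of_mem_normalizer (hn hb') (inv_mem hu))) (inv_mem hu')
      have l3 := (commutator_mono l1 l1).trans l2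
      exact h1 _ hA _ (h.inv _ hA x) (Ne.symm hne) (eq_bot_iff.2 ((commutator_mono l3 l3).trans
        (commutator_eq_bot_iff_le_centralizer.2 hc).le))))
  have hR : IsPGroup q ↥⁅P, zpowers a⁆ := hP.to_le (Solv.commutator_le_of_le_normalizer hn)
  have ha := le_normalizer_commutator hn le_normalizer (mem_zpowers a)
  have fx : ∀ x : ↥⁅P, zpowers a⁆, (x : G) ∈ 𝐂[zpowers a] ↔
      ∀ α ∈ zpowers (normalizerMonoidHom _ ⟨a, ha⟩), α x = x := fun x => by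
    rw [centralizer_zpowers, mem_centralizer_singleton_iff]
    exact ⟨fun e => (zpowers_le (H := MulAction.stabilizer _ x)).2
        (Subtype.ext (mul_inv_eq_iff_eq_mul.2 e.symm)),
      fun e => (mul_inv_eq_iff_eq_mul.1 (congrArg Subtype.val (e _ (mem_zpowers _)))).symm⟩
  obtain ⟨⟨-, -, s1⟩, s2⟩ := S0119.result hR (zpowers (normalizerMonoidHom _ ⟨a, ha⟩))
    (by
      rw [Nat.card_zpowers]
      exact ((Nat.coprime_primes h.pp h.qp).2 h.pq).coprime_dvd_left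
        (orderOf_dvd_of_pow_eq_one (ho ▸ b0_ord ha)))
    (eq_top_iff.2 ((b0_gen ha (h.comm_comm hA hP hn)).ge.trans
      (closure_mono fun _ ⟨x, e⟩ => ⟨x, _, mem_zpowers _, e⟩)))
    fun H hH hH' α hα x hx => (fx x).1 (key (H.map (Subgroup.subtype _)) ((hR.to_subgroup H).map _)
      (zpowers_le.2 (mem_normalizer_of_cj_le (cj_le_iff_forall.2 (by
        rintro _ ⟨y, hy, rfl⟩
        exact ⟨_, characteristic_iff_le_comap.1 hH (normalizerMonoidHom _ ⟨a, ha⟩) hy, rfl⟩))))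
      (by
        rintro _ ⟨y, hy, rfl⟩ _ ⟨z, hz, rfl⟩
        exact congrArg (fun t : H => ((t : ↥⁅P, zpowers a⁆) : G)) (hH'.is_comm.comm ⟨z, hz⟩ ⟨y, hy⟩))
      ⟨x, hx, rfl⟩) α hα
  exact ⟨fun c hc y hy => congrArg Subtype.val (mem_center_iff.1
      ((s2 ⟨c, hc.1⟩).2 ((fx _).1 hc.2)) ⟨y, hy⟩),
    commutator_le.2 fun x hx y hy => (fx ⁅⟨x, hx⟩, ⟨y, hy⟩⁆).2 ((s2 _).1
      (s1.le (commutator_mem_commutator trivial trivial)))⟩

end Cfsg.Agent.FrD
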