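import Mathlib
import Cfsg.Agent.FrD.Defs
import Cfsg.Agent.S0205

/-! S3257, step B1: structure of the group generated by two points. -/

set_option autoImplicit false

namespace Cfsg.Agent.FrD

open Subgroup Cfsg Cfsg.Agent.PLocal.Amb
open scoped commutatorElement

variable {G : Type*} [Group G] [Finite G] {p : ℕ} {D : Set (Subgroup G)}

namespace B1

set_option linter.unusedSectionVars false

variable {A B H K : Subgroup G}

theorem inf_or (hp : p.Prime) (hA : Nat.card A = p) (K : Subgroup G) : A ⊓ K = ⊥ ∨ A ≤ K := by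
  rcases (Nat.dvd_prime hp).1 (hA ▸ card_dvd_of_le (inf_le_left : A ⊓ K ≤ A)) with e | e
  · exact .inl (card_eq_one.1 e)
  · exact .inr (inf_eq_left.1 (eq_of_le_of_card_ge inf_le_left (hA.trans e.symm).le))

omit [Finite G] in
theorem self_cent (hp : p.Prime) (hA : Nat.card A = p) : A ≤ 𝐂[A] := by
  have : Fact p.Prime := ⟨hp⟩
  have := isCyclic_of_prime_card hA
  exact fun a ha b hb => congrArg Subtype.val (mul_comm' (⟨b, hb⟩ : A) ⟨a, ha⟩)

omit [Finite G] in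
theorem comm_of (hg : sSup D = ⊤) (h : ∀ A ∈ D, ∀ B ∈ D, A ≤ 𝐂[B]) : IsMulCommutative G := by
  have h1 : (⊤ : Subgroup G) ≤ 𝐂[⊤] := by
    conv_lhs => rw [← hg]
    refine sSup_le fun B hB => le_centralizer_iff.1 ?_
    rw [← hg]
    exact sSup_le fun A hA => h A hA B hB
  exact ⟨⟨fun a b => h1 (mem_top b) a (mem_top a)⟩⟩

theorem sol (h : Odd (Nat.card K)) (h1 : K ≠ ⊥) : ⁅K, K⁆ < K := by
  have := S0205.result h
  rw [← nontrivial_iff_ne_bot] at h1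
  rw [← K.range_subtype, MonoidHom.range_eq_map, ← map_commutator, map_subtype_lt_map_subtype]
  exact Group.IsSolvable.commutator_lt_top_of_nontrivial K

omit [Finite G] in
theorem nrm {L : Subgroup G} (h1 : ⁅L, L⁆ ≤ H) (h2 : H ≤ L) : L ≤ 𝐍[H] :=
  le_normalizer_iff.2 fun g hg x hx => by
    rw [show g * x * g⁻¹ = ⁅g, x⁆ * x by rw [commutatorElement_def]; group]
    exact mul_mem (h1 (commutator_mem_commutator hg (h2 hx))) hx

/-- working hypotheses -/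
structure St (p : ℕ) (D : Set (Subgroup G)) : Prop where
  pp : p.Prime
  card : ∀ A ∈ D, Nat.card A = p
  inv : ∀ A ∈ D, ∀ g : G, cj(g, A) ∈ D
  two : ∀ A ∈ D, ∀ B ∈ D, ∀ A' ∈ D, ∀ B' ∈ D, A' ≠ B' → A' ≤ A ⊔ B → B' ≤ A ⊔ B → A ⊔ B ≤ A' ⊔ B'
  nc : ∀ A ∈ D, ∀ B ∈ D, A ≠ B → ¬ A ≤ 𝐂[B]
  odd : ∀ A ∈ D, ∀ B ∈ D, A ≠ B → Odd (Nat.card ↥(A ⊔ B))

namespace St

variable (h : St p D) (hA : A ∈ D)
include h hA

theorem pg : IsPGroup p A := IsPGroup.of_card (n := 1) (by rw [h.card A hA, pow_one])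

theorem ne : A ≠ ⊥ := fun e => h.pp.one_lt.ne' (by rw [← h.card A hA, e, card_bot])

variable (hB : B ∈ D)
include hB

theorem eq (e : B ≤ 𝐍[A]) : A = B := by
  have : Fact p.Prime := ⟨h.pp⟩
  by_contra c
  exact h.nc A hA B hB c ((inf_or h.pp (h.card A hA) _).resolve_left
    (inf_centralizer_ne_bot (h.pg hB) (h.pg hA) e (h.ne hA)))

theorem le_nrm (h1 : A ≤ H) (h2 : H ≤ A ⊔ B) (h3 : ¬ A ⊔ B ≤ H) : H ≤ 𝐍[A] := fun x hx => by
  by_contra c
  have k := cj_le_of_mem h1 hx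
  exact h3 ((h.two A hA B hB A hA _ (h.inv A hA x) (fun e => c (cj_eq_iff.1 e.symm)) le_sup_left
    (k.trans h2)).trans (sup_le h1 k))

variable (hn : A ≠ B)
include hn

theorem nn (h1 : A ≤ H) (h2 : H ≤ A ⊔ B) (h3 : A ⊔ B ≤ 𝐍[H]) : A ⊔ B ≤ H := by
  by_contra c
  refine hn (h.eq hA hB fun g hg => cj_eq_iff.1 (h.eq hA (h.inv A hA g) ?_).symm)
  exact (cj_le_of_mem_normalizer h1 (h3 (mem_sup_right hg))).trans (h.le_nrm hA hB h1 h2 c)

theorem notp : ¬ IsPGroup p ↥(A ⊔ B) := fun c => by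
  have : Fact p.Prime := ⟨h.pp⟩
  have h1 : (A ⊔ B) ⊓ 𝐍[A] < A ⊔ B :=
    inf_lt_left.2 fun e => hn (h.eq hA hB (le_sup_right.trans e))
  obtain ⟨g, ⟨g1, g2⟩, g3⟩ := SetLike.exists_of_lt (lt_inf_normalizer c h1)
  refine g3 ⟨g1, cj_eq_iff.1 (h.eq hA (h.inv A hA g) ?_).symm⟩
  exact (cj_le_of_mem_normalizer (le_inf le_sup_left le_normalizer) g2).trans inf_le_right

theorem lt (h1 : K ≤ A ⊔ B) (h2 : K ≠ ⊥) : ⁅K, K⁆ < K :=
  sol ((h.odd A hA B hB hn).of_dvd_nat (card_dvd_of_le h1)) h2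

theorem Mlt : ⁅A ⊔ B, A ⊔ B⁆ < A ⊔ B := h.lt hA hB hn le_rfl fun e => h.ne hA (le_bot_iff.1 (le_sup_left.trans e.le))

theorem MA : A ⊔ B ≤ ⁅A ⊔ B, A ⊔ B⁆ ⊔ A :=
  have k := sup_le (h.Mlt hA hB hn).le le_sup_left
  h.nn hA hB hn le_sup_right k (nrm le_sup_left k)

theorem inf : A ⊓ ⁅A ⊔ B, A ⊔ B⁆ = ⊥ := (inf_or h.pp (h.card A hA) _).resolve_right fun e =>
  (h.Mlt hA hB hn).not_ge ((h.MA hA hB hn).trans (sup_le le_rfl e))

theorem cent1 (h1 : K < ⁅A ⊔ B, A ⊔ B⁆) (h2 : A ≤ 𝐍[K]) : K ≤ 𝐂[A] := by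
  have k := h1.le.trans (h.Mlt hA hB hn).le
  have h3 : K ⊔ A ≤ 𝐍[A] := h.le_nrm hA hB le_sup_right (sup_le k le_sup_left) fun e => by
    have := sup_inf_of_le_normalizer' h1.le h2
    rw [h.inf hA hB hn, sup_bot_eq, inf_eq_right.2 ((h.Mlt hA hB hn).le.trans e)] at this
    exact h1.ne' this
  rw [← commutator_eq_bot_iff_le_centralizer, eq_bot_iff, ← h.inf hA hB hn]
  refine le_inf ?_ ((Solv.commutator_le_of_le_normalizer h2).trans h1.le)
  rw [commutator_comm]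
  exact Solv.commutator_le_of_le_normalizer (le_sup_left.trans h3)

theorem cent (h1 : K < ⁅A ⊔ B, A ⊔ B⁆) (h2 : A ⊔ B ≤ 𝐍[K]) : K ≤ 𝐂[A ⊔ B] := by
  rw [centralizer_sup]
  exact le_inf (h.cent1 hA hB hn h1 (le_sup_left.trans h2))
    (h.cent1 hB hA hn.symm (by rwa [sup_comm B]) (le_sup_right.trans h2))

theorem ncent : ¬ ⁅A ⊔ B, A ⊔ B⁆ ≤ 𝐂[A ⊔ B] := fun c =>
  hn (h.eq hA hB (le_sup_right.trans ((h.MA hA hB hn).trans (sup_le
    (c.trans ((centralizer_anti le_sup_left).trans (centralizer_le_normalizer' A))) le_normalizer))))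

theorem exists_r : ∃ r : ℕ, r.Prime ∧ r ≠ 2 ∧ p ≠ r ∧ IsPGroup r ↥⁅A ⊔ B, A ⊔ B⁆ := by
  have m1 := h.Mlt hA hB hn
  have m2 := h.ncent hA hB hn
  have m3 := fun {K} => h.cent (K := K) hA hB hn
  have m4 := h.MA hA hB hn
  have m5 := fun {K} => h.lt (K := K) hA hB hn
  have m6 : A ⊔ B ≤ 𝐍[⁅A ⊔ B, A ⊔ B⁆] := le_normalizer_commutator le_normalizer le_normalizer
  generalize ⁅A ⊔ B, A ⊔ B⁆ = M at *
  obtain ⟨r, hr, r1⟩ := Nat.exists_prime_and_dvd (mt relIndex_eq_one.1 m2)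
  have : Fact r.Prime := ⟨hr⟩
  obtain ⟨T, hT⟩ := exists_isSyl r M
  have z : ⁅M, M⁆ ≤ 𝐂[A ⊔ B] := m3 (m5 m1.le fun e => m2 (e.le.trans bot_le))
    (le_normalizer_commutator m6 m6)
  have t1 : M ≤ 𝐍[T] := fun g hg => mem_normalizer_of_cj_le (hT.le_of_normalizes
    (isPGroup_cj g hT.pgrp) (cj_le_of_mem hT.le hg) (cj_le_iff_forall.2 fun x hx => by
      rw [show g * x * g⁻¹ = ⁅g, x⁆ * x by rw [commutatorElement_def]; group]
      exact mul_mem (centralizer_le_normalizer' T (centralizer_anti (hT.le.trans m1.le)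
        (z (commutator_mem_commutator hg (hT.le hx))))) (le_normalizer hx)))
  have t2 : A ⊔ B ≤ 𝐍[T] := fun g hg =>
    have k := cj_le_of_mem_normalizer hT.le (m6 hg)
    mem_normalizer_of_cj_le (hT.le_of_normalizes (isPGroup_cj g hT.pgrp) k (k.trans t1))
  have t3 : T = M := by
    by_contra c
    exact hT.not_dvd_relIndex
      (r1.trans (relIndex_dvd_of_le_left M (m3 (hT.le.lt_of_ne c) t2)))
  have pg : IsPGroup r M := t3 ▸ hT.pgrp
  refine ⟨r, hr, ?_, ?_, pg⟩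
  · rintro rfl
    exact (Nat.not_even_iff_odd.2 (h.odd A hA B hB hn)) (even_iff_two_dvd.2
      (r1.trans ((relIndex_dvd_card _ _).trans (card_dvd_of_le m1.le))))
  · rintro rfl
    refine h.notp hA hB hn (IsPGroup.to_le ?_ m4)
    rw [sup_comm]
    exact isPGroup_sup (h.pg hA) pg (le_sup_left.trans m6)

end St

end B1

open B1


/-- PROOF.  Write `L = A ⊔ B` for `A ≠ B` in `D`; all such `L` are `≅ F`, so have the same order.
(0) `D` has two distinct members (else `G = sSup D` is `⊥` or of order `p`, commutative).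
(two) If `A' ≠ B'` lie in `A ⊔ B` then `A ≠ B` (else `A' = B' = A` by orders) and `A' ⊔ B' = A ⊔ B`
by orders (`Subgroup.eq_of_le_of_card_ge`).
(1) No two distinct members commute: else `F` is commutative, so all pairs of `D` commute and
`G = sSup D` is commutative.  If `B ≤ 𝐍[A]`, `A ≠ B`, then `B` centralises `A`
(`A ⊔ B` has order `p ^ 2`, or `|Aut A| = p - 1`), impossible.
(2) `L` is not a `p`-group: if it is, `A < L`, so `A < L ⊓ 𝐍[A] =: K` (`lt_inf_normalizer`);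
`K ≠ L` by (1); take `g ∈ L ⊓ 𝐍[K]`, `g ∉ K`: `cj(g, A) ≤ K ≤ 𝐍[A]` and `cj(g, A) ≠ A`, against (1).
(3) Every `H` with `A ≤ H < L` normalises `A` (for `x ∈ H`, `cj(x, A) ≠ A` gives `L ≤ H` by (two)).
`L` is solvable (S0205), so `M = ⁅L, L⁆ < L`.  `A` is not in `M` (else `M ≤ 𝐍[A]` by (3), and all
`L`-conjugates of `A` lie in `M`, so equal `A` by (1), so `B ≤ 𝐍[A]`), so `M ⊓ A = ⊥`.  `M ⊔ A` is
normal in `L`; if `≠ L` it normalises `A` and the same argument gives `B ≤ 𝐍[A]`; so `M ⊔ A = L`.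
A subgroup `K < M` normalised by `L` has `K ⊔ A < L` (orders, or `sup_inf_of_le_normalizer`), so
`K ≤ 𝐍[A]`, `⁅K, A⁆ ≤ K ⊓ A = ⊥`; so `K` centralises every `L`-conjugate of `A`, and `L` is generated by
`A` and a conjugate `cj(x, A) ≠ A`: `K ≤ 𝐂[L]`.  `M` is not central in `L` (else `A` is normal).
`⁅M, M⁆ < M` is central, so `M` is nilpotent (class `≤ 2`) and is the join of its Sylow subgroups
(each characteristic, so normalised by `L`); not all are central, so `M` is an `r`-group for a prime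
`r`, `r ≠ p` by (2), `r ∣ |F|` is odd.  `|F| = p * r ^ n` with `n ≥ 1`, so `r` is the unique prime
`≠ p` dividing `|F|`: it does not depend on the pair.  `line`: `Q = M` (for `A = B` take `⊥`).
(4) Dichotomy: `⁅⁅L, L⁆, ⁅L, L⁆⁆ = ⊥` iff `⁅commutator F, commutator F⁆ = ⊥` (transport along the
isomorphism, `Subgroup.map_commutator`); for `A = B` it is trivially `⊥`. -/
theorem pre_of_orig (hG : ¬ IsMulCommutative G) (hp : p.Prime) (hp2 : p ≠ 2)
    (hDp : ∀ A ∈ D, Nat.card A = p) (hDinv : ∀ A ∈ D, ∀ g : G, cj(g, A) ∈ D) (hDgen : sSup D = ⊤)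
    {F : Type*} [Group F] [Finite F] (hF : Odd (Nat.card F))
    (hpair : ∀ A ∈ D, ∀ B ∈ D, A ≠ B → Nonempty (↥(A ⊔ B) ≃* F)) :
    ∃ q : ℕ, Pre p q D ∧
      (∀ A ∈ D, ∀ B ∈ D, ∀ A' ∈ D, ∀ B' ∈ D, A' ≠ B' → A' ≤ A ⊔ B → B' ≤ A ⊔ B → A ⊔ B ≤ A' ⊔ B') ∧
      ((∀ A ∈ D, ∀ B ∈ D, ⁅⁅A ⊔ B, A ⊔ B⁆, ⁅A ⊔ B, A ⊔ B⁆⁆ = ⊥) ∨
        ∀ A ∈ D, ∀ B ∈ D, A ≠ B → ⁅⁅A ⊔ B, A ⊔ B⁆, ⁅A ⊔ B, A ⊔ B⁆⁆ ≠ ⊥) := by
  have hφ : ∀ A ∈ D, ∀ B ∈ D, A ≠ B → ∃ φ : F →* G, Function.Injective φ ∧ map φ ⊤ = A ⊔ B :=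
    fun A hA B hB hn => by
      obtain ⟨e⟩ := hpair A hA B hB hn
      refine ⟨(A ⊔ B).subtype.comp e.symm.toMonoidHom,
        (A ⊔ B).subtype_injective.comp e.symm.injective, ?_⟩
      rw [← map_map, map_top_of_surjective _ e.symm.surjective, ← MonoidHom.range_eq_map,
        range_subtype]
  have hc : ∀ A ∈ D, ∀ B ∈ D, A ≠ B → Nat.card ↥(A ⊔ B) = Nat.card F := fun A hA B hB hn =>
    (hpair A hA B hB hn).elim fun e => Nat.card_congr e.toEquiv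
  have two : ∀ A ∈ D, ∀ B ∈ D, ∀ A' ∈ D, ∀ B' ∈ D, A' ≠ B' → A' ≤ A ⊔ B → B' ≤ A ⊔ B →
      A ⊔ B ≤ A' ⊔ B' := fun A hA B hB A' hA' B' hB' hn h1 h2 => by
    by_cases c : A = B
    · subst c
      rw [sup_idem] at h1 h2
      exact absurd ((eq_of_le_of_card_ge h1 ((hDp A hA).trans (hDp A' hA').symm).le).trans
        (eq_of_le_of_card_ge h2 ((hDp A hA).trans (hDp B' hB').symm).le).symm) hn
    · exact (eq_of_le_of_card_ge (sup_le h1 h2)
        ((hc A hA B hB c).trans (hc A' hA' B' hB' hn).symm).le).ge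
  have h : St p D := ⟨hp, hDp, hDinv, two, fun A hA B hB hn c => hG (comm_of hDgen
    fun A' hA' B' hB' => by
      by_cases e : A' = B'
      · exact e ▸ self_cent hp (hDp A' hA')
      obtain ⟨φ, i, e1⟩ := hφ A hA B hB hn
      obtain ⟨φ', -, e2⟩ := hφ A' hA' B' hB' e
      have k : ⁅A ⊔ B, A ⊔ B⁆ = ⊥ := by
        rw [commutator_eq_bot_iff_le_centralizer, centralizer_sup]
        exact sup_le (le_inf (self_cent hp (hDp A hA)) c)
          (le_inf (le_centralizer_iff.1 c) (self_cent hp (hDp B hB)))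
      rw [← e1, ← map_commutator, map_eq_bot_iff_of_injective _ i] at k
      have k' : ⁅A' ⊔ B', A' ⊔ B'⁆ = ⊥ := by rw [← e2, ← map_commutator, k, Subgroup.map_bot]
      rw [commutator_eq_bot_iff_le_centralizer] at k'
      exact le_sup_left.trans (k'.trans (centralizer_anti le_sup_right))),
    fun A hA B hB hn => hc A hA B hB hn ▸ hF⟩
  obtain ⟨A₀, hA₀, B₀, hB₀, hn₀⟩ : ∃ A ∈ D, ∃ B ∈ D, A ≠ B := by
    by_contra c
    push Not at c
    exact hG (comm_of hDgen fun A hA B hB => c A hA B hB ▸ self_cent hp (hDp A hA))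
  obtain ⟨q, q1, q2, q3, q4⟩ := h.exists_r hA₀ hB₀ hn₀
  obtain ⟨φ₀, i₀, e₀⟩ := hφ A₀ hA₀ B₀ hB₀ hn₀
  rw [← e₀, ← map_commutator] at q4
  replace q4 := q4.of_equiv (equivMapOfInjective _ φ₀ i₀).symm
  refine ⟨q, ⟨hp, hp2, q1, q2, q3, hDp, hDinv, fun A hA B hB => ?_⟩, two, ?_⟩
  · by_cases e : A = B
    · exact ⟨⊥, IsPGroup.of_bot, le_normalizer_of_normal, by rw [e, bot_sup_eq]⟩
    obtain ⟨φ, -, e1⟩ := hφ A hA B hB e
    refine ⟨⁅A ⊔ B, A ⊔ B⁆, ?_,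
      le_sup_left.trans (le_normalizer_commutator le_normalizer le_normalizer),
      le_sup_right.trans (h.MA hA hB e)⟩
    rw [← e1, ← map_commutator]
    exact q4.map φ
  · by_cases c : ⁅⁅(⊤ : Subgroup F), (⊤ : Subgroup F)⁆, ⁅(⊤ : Subgroup F), (⊤ : Subgroup F)⁆⁆ = ⊥
    · refine .inl fun A hA B hB => ?_
      by_cases e : A = B
      · rw [← e, sup_idem, commutator_eq_bot_iff_le_centralizer.2 (self_cent hp (hDp A hA)),
          commutator_bot_left]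
      obtain ⟨φ, -, e1⟩ := hφ A hA B hB e
      rw [← e1, ← map_commutator, ← map_commutator, c, Subgroup.map_bot]
    · refine .inr fun A hA B hB e k => c ?_
      obtain ⟨φ, i, e1⟩ := hφ A hA B hB e
      rwa [← e1, ← map_commutator, ← map_commutator, map_eq_bot_iff_of_injective _ i] at k

end Cfsg.Agent.FrD
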