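import Mathlib
import Cfsg.Agent.FrD.Api
import Cfsg.Agent.Inv.FocalTools

/-! S3257: 2-subgroups centralise points. -/

set_option autoImplicit false

namespace Cfsg.Agent.FrD

open Subgroup Cfsg Cfsg.Agent.PLocal.Amb
open scoped commutatorElement

variable {G : Type*} [Group G] [Finite G] {p q : ℕ} {D : Set (Subgroup G)}

/-- PROOF.  Take `T₀ ≤ T` maximal among the subgroups normalising some point `A` (`⊥` does).  If
`T₀ < T` take `s ∈ T ⊓ 𝐍[T₀]`, `s ∉ T₀`, `s * s ∈ T₀` (`lt_inf_normalizer`, then a power).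
`B = cj(s, A)` is normalised by `T₀` and `cj(s, B) = A`, so `T₀ ⊔ zpowers s` normalises
`L = A ⊔ B = dcl D L` (`dcl_sup`); `exists_fix (sm_line ..)` gives a point normalised by
`T₀ ⊔ zpowers s`, against maximality. -/
theorem Pre.exists_norm (h : Pre p q D) (hne : D.Nonempty) {T : Subgroup G} (hT : IsPGroup 2 T) :
    ∃ A ∈ D, T ≤ 𝐍[A] := by
  have := Fact.mk Nat.prime_two
  obtain ⟨A₀, hA₀⟩ := hne
  obtain ⟨T₀, -, ⟨hle, A, hA, hn⟩, hmax⟩ := Set.Finite.exists_le_maximal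
    (s := {K : Subgroup G | K ≤ T ∧ ∃ A ∈ D, K ≤ 𝐍[A]}) (Set.toFinite _) (a := ⊥)
    ⟨bot_le, A₀, hA₀, bot_le⟩
  rcases hle.eq_or_lt with rfl | hlt
  · exact ⟨A, hA, hn⟩
  obtain ⟨t, ⟨tT, tN⟩, ht⟩ := SetLike.exists_of_lt (lt_inf_normalizer hT hlt)
  obtain ⟨s, sT, sN, hs, ss⟩ : ∃ s ∈ T, s ∈ 𝐍[T₀] ∧ s ∉ T₀ ∧ s * s ∈ T₀ := by
    obtain ⟨k, hk⟩ := isPGroup_iff.1 hT t tT
    have hk' : t ^ 2 ^ k ∈ T₀ := hk ▸ T₀.one_mem
    clear hk
    induction k with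
    | zero => exact absurd (by simpa using hk') ht
    | succ k ih =>
      by_cases e : t ^ 2 ^ k ∈ T₀
      · exact ih e
      · exact ⟨_, pow_mem tT _, pow_mem tN _, e, by rwa [← pow_add, ← two_mul, ← pow_succ']⟩
  have hB := h.inv A hA s
  obtain ⟨C, hC, -, hn'⟩ := h.exists_fix (h.sm_line hA hB) hA le_sup_left (T := T₀ ⊔ zpowers s)
    (hT.to_le (sup_le hle (zpowers_le.2 sT))) (by
      rw [dcl_sup hA hB]
      refine sup_le (le_normalizer_sup hn ?_) (zpowers_le.2 ?_)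
      · rw [normalizer_cj, ← cj_of_mem_normalizer sN]
        exact cj_mono _ hn
      · rw [← cj_eq_iff, cj_sup, ← cj_mul, cj_of_mem_normalizer (hn ss), sup_comm])
  exact absurd (hmax ⟨sup_le hle (zpowers_le.2 sT), C, hC, hn'⟩ le_sup_left
    (mem_sup_right (mem_zpowers s))) hs

/-- An element normalising two points acts on them by the same power.
PROOF.  `L = A ⊔ B = Q ⊔ A`, `Q = rad D L` (`line_eq`) is normalised by `x` and `L`.  Let
`A = zpowers a`; `B ≤ Q ⊔ A`, `Q ⊓ B = ⊥`, so a generator of `B` is `l * a ^ j` with `a ^ j ≠ 1`, and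
each `b ∈ B` is `l * a'`, `l ∈ Q`, `a' ∈ A`.  Then `x b x⁻¹ = (x l x⁻¹) * a' ^ i` and
`b ^ i ∈ Q a' ^ i` (image in the quotient, or induction), so `x b x⁻¹ * (b ^ i)⁻¹ ∈ Q ⊓ B = ⊥`. -/
theorem Pre.pow_eq (h : Pre p q D) {A B : Subgroup G} (hA : A ∈ D) (hB : B ∈ D) {x : G}
    (hxA : x ∈ 𝐍[A]) (hxB : x ∈ 𝐍[B]) {i : ℕ} (hi : ∀ a ∈ A, x * a * x⁻¹ = a ^ i) :
    ∀ b ∈ B, x * b * x⁻¹ = b ^ i := by
  intro b hb
  have hs := h.sm_line hA hB
  obtain ⟨y, hy, e⟩ := h.exists_cj hs hA hB le_sup_left le_sup_right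
  obtain ⟨a, ha, rfl⟩ := mem_cj_iff_exists.1 (e ▸ hb)
  have xQ : x ∈ 𝐍[rad D (A ⊔ B)] := h.normalizer_le_rad _ (le_normalizer_sup (L := zpowers x)
    (zpowers_le.2 hxA) (zpowers_le.2 hxB) (mem_zpowers x))
  have l : ∀ c ∈ A, y * c * y⁻¹ * c⁻¹ ∈ rad D (A ⊔ B) := fun c hc => by
    have := mul_mem hy (conj_mem_of_mem_normalizer (h.le_normalizer_rad _ (mem_sup_left hc))
      (inv_mem hy))
    simpa only [mul_assoc] using this
  have m : x * (y * a * y⁻¹) * x⁻¹ * ((y * a * y⁻¹) ^ i)⁻¹ ∈ rad D (A ⊔ B) ⊓ B := by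
    refine mem_inf.2 ⟨?_, mul_mem (conj_mem_of_mem_normalizer hxB hb) (inv_mem (pow_mem hb _))⟩
    have := mul_mem (conj_mem_of_mem_normalizer xQ (l a ha)) (inv_mem (l _ (pow_mem ha i)))
    rw [conj_pow]
    convert this using 1
    nth_rw 3 [← hi a ha]
    group
  rw [h.inf_eq_bot hB hs.1, mem_bot] at m
  exact mul_inv_eq_one.1 m

variable {N : Subgroup G}

/-- PROOF.  Take a Sylow 2-subgroup `S ≥ T` and a point `A` with `S ≤ 𝐍[A]` (`exists_norm`).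
`S ≤ S.focalSubgroup` (`focal_eq_of_pResidual_eq_top` with `pResidual_eq_top`, see DxD/Fin, Transfer).
A generator `x⁻¹ * (g x g⁻¹)` (`x, g x g⁻¹ ∈ S`) centralises `A`: `x` acts on the cyclic group `A` as a
power `i`; `x` also normalises `cj(g⁻¹, A)` and acts there as the power `i` (`pow_eq`), so
`g x g⁻¹` acts on `A` as the power `i`.  So the focal subgroup lies in `𝐂[A]`. -/
theorem Ce.exists_cent (h : Ce p q D N) {T : Subgroup G} (hT : IsPGroup 2 T) :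
    ∃ A ∈ D, T ≤ 𝐂[A] := by
  have := Fact.mk Nat.prime_two
  obtain ⟨S, hS⟩ := hT.exists_le_sylow
  obtain ⟨A, hA, hn⟩ := h.toPre.exists_norm h.ne S.2
  refine ⟨A, hA, hS.trans ((Inv.focal_eq_of_pResidual_eq_top S h.pResidual_eq_top).trans ?_)⟩
  rw [focalSubgroup_def, closure_le]
  rintro g ⟨hg, x, hx, u, rfl⟩ a ha
  obtain ⟨a₀, -, e⟩ := h.toPre.exists_gen hA
  have x1 : x⁻¹ ∈ 𝐍[A] := hn (inv_mem hx)
  have x2 : u * x⁻¹ * u⁻¹ ∈ 𝐍[A] := by
    have := hn (mul_mem (inv_mem hx) hg)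
    rwa [commutatorElement_def, mul_assoc, mul_assoc, inv_mul_cancel_left, ← mul_assoc] at this
  obtain ⟨i, hi⟩ : x⁻¹ * a₀ * x⁻¹⁻¹ ∈ Submonoid.powers a₀ := by
    rw [mem_powers_iff_mem_zpowers, e]
    exact conj_mem_of_mem_normalizer x1 (e ▸ mem_zpowers a₀)
  have hi' : ∀ c ∈ A, x⁻¹ * c * x⁻¹⁻¹ = c ^ i := fun c hc => by
    obtain ⟨k, rfl⟩ := e.ge hc
    dsimp only at hi ⊢
    rw [← conj_zpow, ← hi, ← zpow_natCast, ← zpow_natCast, ← zpow_mul, ← zpow_mul, mul_comm]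
  have k := h.toPre.pow_eq hA (h.inv A hA u⁻¹) x1 (by
    rw [normalizer_cj, mem_cj, inv_inv]; exact x2) hi' _ (conj_mem_cj u⁻¹ ha)
  rw [conj_pow, ← hi' a ha] at k
  calc a * ⁅x, u⁆ = x * u * (u⁻¹ * (x⁻¹ * a * x⁻¹⁻¹) * u⁻¹⁻¹) * x⁻¹ * u⁻¹ * (u * x * u⁻¹ * x⁻¹) * ⁅x, u⁆ := by
        group
    _ = ⁅x, u⁆ * a := by rw [← k, commutatorElement_def]; group

/-- PROOF.  `exists_cent` gives a point `A` centralised by `T`; `pow_eq` with `i = 1`. -/
theorem Ce.cent_of_two (h : Ce p q D N) {T B : Subgroup G} (hT : IsPGroup 2 T) (hB : B ∈ D)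
    (hn : T ≤ 𝐍[B]) : T ≤ 𝐂[B] := by
  obtain ⟨A, hA, hc⟩ := h.exists_cent hT
  intro x hx b hb
  have := h.toPre.pow_eq hA hB (centralizer_le_normalizer' _ (hc hx)) (hn hx) (i := 1)
    (fun a ha => by rw [pow_one, ← hc hx a ha, mul_inv_cancel_right]) b hb
  rw [pow_one, mul_inv_eq_iff_eq_mul] at this
  exact this.symm

/-- A subgroup containing all points centralised by an involution `u` has `dcl` normalised by `u`.
PROOF.  For a point `B ≤ H` show `cj(u, B) ≤ H`.  If `cj(u, B) ≠ B`, the line `L = B ⊔ cj(u, B)` is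
normalised by `u`, so contains a point `C` normalised (`exists_fix`), so centralised
(`cent_of_two`) by `u`: `C ≤ H`, `C ≠ B`, and `h.two` gives `L ≤ B ⊔ C ≤ H`.  So
`cj(u, dcl D H) = dcl D cj(u, H)`-style argument: `cj(u, dcl D H) ≤ dcl D H`. -/
theorem Ce.mem_normalizer_dcl (h : Ce p q D N) {u : G} (hu : orderOf u = 2) {H : Subgroup G}
    (hH : dcl D (centralizer {u}) ≤ H) : u ∈ 𝐍[dcl D H] := by
  have uu : u * u = 1 := by rw [← sq, ← hu, pow_orderOf_eq_one]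
  have hT : IsPGroup 2 (zpowers u) := isPGroup_zpowers ⟨1, by rw [pow_one, sq, uu]⟩
  have key : ∀ B ∈ D, B ≤ H → cj(u, B) ≤ H := fun B hB hBH => by
    have hB' := h.inv B hB u
    obtain ⟨C, hC, hCL, hn⟩ := h.toPre.exists_fix (h.toPre.sm_line hB hB') hB le_sup_left hT (by
      rw [dcl_sup hB hB', zpowers_le, ← cj_eq_iff, cj_sup, ← cj_mul, uu, cj_one, sup_comm])
    have hCH : C ≤ H := (le_dcl hC fun c hc => mem_centralizer_singleton_iff.2
      (h.cent_of_two hT hC hn (mem_zpowers u) c hc)).trans hH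
    by_cases e : B = C
    · rw [e, cj_of_mem_normalizer (hn (mem_zpowers u))]
      exact hCH
    · exact le_sup_right.trans ((h.two B hB _ hB' B hB C hC e le_sup_left hCL).trans
        (sup_le hBH hCH))
  refine mem_normalizer_of_cj_le ?_
  rw [← h.toPre.dcl_cj, dcl_le_iff]
  intro B hB hBH
  have := key _ (h.inv B hB u⁻¹) (le_cj_iff.1 hBH)
  rw [cj_cj_inv] at this
  exact le_dcl hB this

end Cfsg.Agent.FrD
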