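import Mathlib
import Cfsg.Agent.FrD.E1
import Cfsg.Agent.S0215

/-! S3257: every involution centralises at least two points (via the Z* theorem). -/

set_option autoImplicit false
set_option linter.unusedSectionVars false

namespace Cfsg.Agent.FrD

open Subgroup Cfsg Cfsg.Agent.PLocal.Amb
open scoped commutatorElement

variable {G : Type*} [Group G] [Finite G] {p q : ℕ} {D : Set (Subgroup G)} {N : Subgroup G}

/-- If `u` is an involution normalising a group `Q` of odd order, each `x ∈ Q` is `w * c` with `w`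
inverted and `c` centralised by `u`.  PROOF.  `y = x * (u x⁻¹ u)` is inverted by `u`, has odd order
`2 m + 1`; `w = y ^ (m + 1)`, `w * w = y`, `c = w⁻¹ * x`. (May exist already: `ca find inverted`.) -/
theorem exists_inv_mul {Q : Subgroup G} (hQ : Odd (Nat.card Q)) {u : G} (hu : u * u = 1)
    (hn : u ∈ 𝐍[Q]) {x : G} (hx : x ∈ Q) :
    ∃ w ∈ Q, ∃ c ∈ Q, u * w * u⁻¹ = w⁻¹ ∧ u * c * u⁻¹ = c ∧ x = w * c := by
  obtain ⟨m, hm⟩ := hQ
  have hy : x * (u * x⁻¹ * u⁻¹) ∈ Q := mul_mem hx (conj_mem_of_mem_normalizer hn (inv_mem hx))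
  have h1 : u * (x * (u * x⁻¹ * u⁻¹)) * u⁻¹ = (x * (u * x⁻¹ * u⁻¹))⁻¹ := by
    rw [show u * (x * (u * x⁻¹ * u⁻¹)) * u⁻¹ = u * x * u⁻¹ * (u * u) * x⁻¹ * (u * u)⁻¹ by group, hu]; group
  have h2 : u * x * u⁻¹ = (x * (u * x⁻¹ * u⁻¹))⁻¹ * x := by group
  generalize x * (u * x⁻¹ * u⁻¹) = y at hy h1 h2
  have h3 : y ^ (m + 1) * y ^ (m + 1) = y := by
    rw [← pow_add, show m + 1 + (m + 1) = Nat.card Q + 1 by omega, pow_succ,
      orderOf_dvd_iff_pow_eq_one.1 (orderOf_dvd_natCard _ hy), one_mul]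
  have h4 : u * y ^ (m + 1) * u⁻¹ = (y ^ (m + 1))⁻¹ := by rw [← conj_pow, h1, inv_pow]
  have h5 := pow_mem hy (m + 1)
  generalize y ^ (m + 1) = w at h3 h4 h5
  refine ⟨w, h5, w⁻¹ * x, mul_mem (inv_mem h5) hx, h4, ?_, by group⟩
  rw [← conj_mul, ← conj_inv, h4, h2, ← h3]
  group

theorem Ce.e2_one (h : Ce p q D N) {t : G} {A B : Subgroup G} (hA : A ∈ D) (hB : B ∈ D) (ht : orderOf t = 2)
    (l : ∀ B ∈ D, B ≤ centralizer {t} ↔ B = A) :
    ∃ w ∈ rad D (A ⊔ B), B = cj(w, A) ∧ cj(t, B) = cj(w⁻¹, A) := by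
  have s := h.sm_line hA hB
  have h1 := normalizer_dcl_le _ (h.mem_normalizer_dcl ht (H := A ⊔ B)
    (dcl_le_iff.2 fun C hC e => ((l C hC).1 e).le.trans le_sup_left))
  obtain ⟨x, hx, e⟩ := h.exists_cj s hA hB le_sup_left le_sup_right
  obtain ⟨w, hw, c, -, h2, h3, rfl⟩ := exists_inv_mul (h.odd_of_isPGroup s.1)
    (by rw [← sq, ← ht, pow_orderOf_eq_one]) h1 hx
  have h4 := (l A hA).2 rfl
  rw [cj_mul, (l _ (h.inv A hA c)).1 (cj_le_of_mem h4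
    (mem_centralizer_singleton_iff.2 (mul_inv_eq_iff_eq_mul.1 h3).symm))] at e
  refine ⟨w, hw, e, ?_⟩
  rw [e, ← cj_mul, mul_inv_eq_iff_eq_mul.1 h2, cj_mul, cj_of_mem_normalizer (centralizer_le_normalizer' A
    fun a ha => mem_centralizer_singleton_iff.1 (h4 ha))]

theorem Ce.e2_two (h : Ce p q D N) {t t' : G} {A : Subgroup G} (hA : A ∈ D) (ht : orderOf t = 2)
    (ht' : orderOf t' = 2) (l : ∀ B ∈ D, B ≤ centralizer {t} ↔ B = A)
    (l' : ∀ B ∈ D, B ≤ centralizer {t'} ↔ B = A) : t = t' := by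
  have : (⨅ B ∈ D, 𝐍[B]).Normal := ⟨fun x hx g => mem_iInf.2 fun B => mem_iInf.2 fun hB => by
    have := mem_iInf.1 (mem_iInf.1 hx _) (h.inv B hB g⁻¹)
    rwa [normalizer_cj, mem_cj, inv_inv] at this⟩
  rcases h.normal_cases (⨅ B ∈ D, 𝐍[B]) with e | e
  · refine inv_mul_eq_one.1 (e.le (mem_iInf.2 fun B => mem_iInf.2 fun hB => ?_))
    obtain ⟨w, hw, h1, h2⟩ := h.e2_one hA hB ht l
    obtain ⟨w', hw', h3, h4⟩ := h.e2_one hA hB ht' l'
    have s := h.sm_line hA hB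
    have n : A ≤ 𝐍[rad D (A ⊔ B)] := le_sup_left.trans (h.le_normalizer_rad _)
    have z1 : w⁻¹ * w' ∈ 𝐍[A] := cj_eq_iff.1 (by rw [cj_mul, ← h3, h1, cj_inv_cj])
    have z2 := mul_mem (inv_mem hw) hw'
    have z3 := h.n1 A hA _ s.1 n
    rw [(s.2 A hA le_sup_left).2] at z3
    have z4 := z3 ⟨z2, h.cent_of_norm hA s.1 n z2 z1⟩ w hw
    rw [← cj_eq_iff, cj_mul, h4, show w'⁻¹ = w⁻¹ * (w⁻¹ * w')⁻¹ by rw [← mul_inv_rev, ← z4, mul_inv_cancel_left],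
      cj_mul, cj_of_mem_normalizer (inv_mem z1), ← h2, cj_inv_cj]
  · have := normalizer_eq_top_iff.1 (top_le_iff.1 ((h.sup A hA).ge.trans
      (sup_le (e.trans (iInf₂_le A hA)) le_normalizer)))
    exact (h.ne_bot hA (h.eq_bot_of_odd A (h.card A hA ▸ h.pp.odd_of_ne_two h.p2))).elim

/-- PROOF.  Call `(t, A)` lonely if `t` is an involution, `A` a point centralised by `t` and the only
one.  If `rad D C(t) = ⊥`, take `A` from `exists_cent`; `dcl D C(t) = A` (`dcl_eq`, `cent_ne_top`), so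
`(t, A)` is lonely.  Loneliness is invariant under conjugation.
(1) `(t, A)` lonely, `B` a point, `L = A ⊔ B`, `Q = rad D L`: `t ∈ 𝐍[dcl D L]` (`mem_normalizer_dcl`, as
`dcl D C(t) = A ≤ L`), so `t ∈ 𝐍[Q]`.  `B = cj(x, A)`, `x ∈ Q` (`exists_cj`), `x = w * c`
(`exists_inv_mul`); `cj(c, A)` is centralised by `t`, so equals `A`; `B = cj(w, A)`,
`cj(t, B) = cj(w⁻¹, A)`.
(2) `(t, A)`, `(t', A)` lonely: `B = cj(w, A) = cj(w', A)`, `z = w⁻¹ * w' ∈ Q ⊓ 𝐍[A] = Q ⊓ 𝐂[A]`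
(`cent_of_norm`) is central in `Q` (`h.n1` with `P = Q = ⁅Q, A⁆`, `sm_line`), so
`w'⁻¹ = w⁻¹ * z⁻¹` and `cj(t', B) = cj(t, B)`.  So `t⁻¹ * t'` lies in `K = ⨅ B ∈ D, 𝐍[B]`, a normal
subgroup.  `N ≤ K` would give `⊤ = N ⊔ A ≤ 𝐍[A]`, `A = ⊥` (`eq_bot_of_odd`).  So `K = ⊥`
(`normal_cases`), `t = t'`.
(3) Take a Sylow 2-subgroup `S ∋ t` and a point centralised by `S`; it is `A`.  If `t' = g t g⁻¹ ∈ S`
then `(t', cj(g, A))` is lonely and `t'` centralises `A`, so `cj(g, A) = A`, `t' = t` by (2).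
S0215 gives a normal `K` of odd order containing all `⁅t, g⁆`; `K = ⊥`, `t` is central, against
`cent_ne_top`. -/
theorem Ce.rad_cent_ne_bot (h : Ce p q D N) {t : G} (ht : orderOf t = 2) :
    rad D (centralizer {t}) ≠ ⊥ := by
  intro e
  have := Fact.mk Nat.prime_two
  obtain ⟨S, hS⟩ := (isPGroup_zpowers (p := 2) ⟨1, by rw [pow_one, ← ht, pow_orderOf_eq_one]⟩).exists_le_sylow
  obtain ⟨A, hA, hSA⟩ := h.exists_cent S.isPGroup'
  have c : ∀ s ∈ (S : Subgroup G), A ≤ centralizer {s} := fun s hs a ha =>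
    mem_centralizer_singleton_iff.2 (hSA hs a ha)
  have t1 : t ≠ 1 := fun e => by simp [e] at ht
  have l : ∀ B ∈ D, B ≤ centralizer {t} ↔ B = A := fun B hB => by
    refine ⟨fun hB' => h.eq_of_isPGroup hB hA (h.pg hA) ?_ le_rfl, fun e => e ▸ c t (hS (mem_zpowers t))⟩
    simpa [e] using (le_dcl hB hB').trans (h.dcl_eq (h.cent_ne_top t1) hA (c t (hS (mem_zpowers t)))).le
  obtain ⟨K, k1, k2, k3⟩ := S0215.result S t ht (hS (mem_zpowers t)) fun g hg => by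
    have l' : ∀ B ∈ D, B ≤ centralizer {g * t * g⁻¹} ↔ B = cj(g, A) := fun B hB => by
      rw [centralizer_singleton_conj, le_cj_iff, l _ (h.inv B hB _), ← cj_inj (g := g), cj_cj_inv]
    rw [← (l' A hA).1 (c _ hg)] at l'
    exact (h.e2_two hA ht ((orderOf_conj' g t).trans ht) l l').symm
  rw [h.eq_bot_of_odd K k2] at k3
  refine h.cent_ne_top t1 (eq_top_iff.2 fun g _ => mem_centralizer_singleton_iff.2 ?_)
  exact (commutatorElement_eq_one_iff_mul_comm.1 (k3 g)).symm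

end Cfsg.Agent.FrD
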