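import Mathlib
import Cfsg.Agent.FrD.F1
import Cfsg.Agent.FrD.E2

/-! S3257: the block of an involution.  `R = rad D M`, `Z = R ⊓ 𝐂[A]`, `R_v = rad D C(v)`. -/

set_option autoImplicit false

namespace Cfsg.Agent.FrD

open Subgroup Cfsg Cfsg.Agent.PLocal.Amb
open scoped commutatorElement

variable {G : Type*} [Group G] [Finite G] {p q : ℕ} {D : Set (Subgroup G)} {N : Subgroup G}

omit [Finite G] in
theorem f2_sq {v : G} (hv : orderOf v = 2) : v * v = 1 := by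
  rw [← pow_two, ← hv, pow_orderOf_eq_one]

omit [Finite G] in
theorem f2_ne {v : G} (hv : orderOf v = 2) : v ≠ 1 := fun e => by simp [e] at hv

omit [Finite G] in
theorem f2_le {A : Subgroup G} {v : G} (hv : v ∈ 𝐂[A]) : A ≤ centralizer {v} := fun a ha =>
  mem_centralizer_singleton_iff.2 (hv a ha)

omit [Finite G] in
theorem f2_mem {v x : G} (e : v * x * v⁻¹ = x) : x ∈ centralizer {v} :=
  mem_centralizer_singleton_iff.2 (mul_inv_eq_iff_eq_mul.1 e).symm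

omit [Finite G] in
theorem f2_fix {v x : G} (e : x ∈ centralizer {v}) : v * x * v⁻¹ = x :=
  mul_inv_eq_iff_eq_mul.2 (mem_centralizer_singleton_iff.1 e).symm

namespace Ce

variable (h : Ce p q D N) {A M M' : Subgroup G}
include h

theorem f2_nv {v : G} (hv : orderOf v = 2) (hM : Blk D M) (h1 : dcl D (centralizer {v}) ≤ M) :
    v ∈ 𝐍[M] := hM.eq ▸ h.mem_normalizer_dcl hv h1

theorem f2_Z (hM : Blk D M) (hA : A ∈ D) (hAM : A ≤ M) : rad D M ⊓ 𝐂[A] ≤ 𝐂[M] := by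
  have := h.cent_rad hM.ne_top hA hAM
  rwa [hM.eq] at this

theorem f2_W (hM : Blk D M) (hA : A ∈ D) (hAM : A ≤ M) {v : G} (hv : v ∈ 𝐂[A]) :
    rad D M ⊓ centralizer {v} ≤ rad D (centralizer {v}) ⊔ (rad D M ⊓ 𝐂[A]) := by
  have p := (h.rad_pg hM.ne_top).to_le (inf_le_left (b := centralizer {v}))
  have n : A ≤ 𝐍[rad D M ⊓ centralizer {v}] :=
    le_normalizer_inf (hAM.trans (h.le_normalizer_rad M)) ((f2_le hv).trans le_normalizer)
  rw [← h.comm_sup hA p n]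
  exact sup_le_sup (h.comm_le_rad hA p n inf_le_right (f2_le hv)) (inf_le_inf_right _ inf_le_left)

theorem f2_side {v : G} (hv : orderOf v = 2) (hM : Blk D M) (hM' : Blk D M') (hne : M ≠ M')
    (h1 : dcl D (centralizer {v}) ≤ M) (h2 : dcl D (centralizer {v}) ≤ M') :
    M ≤ 𝐍[rad D (centralizer {v})] := by
  obtain ⟨A, hA, e⟩ := h.exists_cent (isPGroup_zpowers (p := 2) (x := v)
    ⟨1, by rw [pow_one, pow_two, f2_sq hv]⟩)
  have vA := e (mem_zpowers v)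
  have Ad := le_dcl hA (f2_le vA)
  have AM := Ad.trans h1
  have r1 := rad_le_rad h1
  have r0 := le_inf r1 (rad_le_rad h2)
  have h0 : rad D M ⊓ rad D M' ≠ ⊥ := fun c => h.rad_cent_ne_bot hv (le_bot_iff.1 (c ▸ r0))
  obtain ⟨-, p2, p3, -⟩ := h.pair hM hM' hne hA AM (Ad.trans h2) h0
  have z := h.f2_Z hM hA AM
  have vR := h.normalizer_le_rad M (h.f2_nv hv hM h1)
  have s1 : ∀ c ∈ rad D M ⊓ 𝐂[A], v * c * v⁻¹ = c := fun c hc => by
    have b : dcl D (centralizer {v}) ≤ cj(c, M') := by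
      rw [← cj_of_mem_normalizer (centralizer_le_normalizer' _ (centralizer_anti h1 (z hc)))]
      exact cj_mono c h2
    have n := h.f2_nv hv (h.blk_cj hM' c) b
    rw [normalizer_cj, mem_cj] at n
    have m : c⁻¹ * (v * c * v⁻¹) ∈ rad D M ⊓ 𝐂[A] ⊓ 𝐍[M'] := mem_inf.2 ⟨mul_mem (inv_mem hc)
      (mem_inf.2 ⟨conj_mem_of_mem_normalizer vR hc.1, mul_mem (mul_mem vA hc.2) (inv_mem vA)⟩), by
        rw [← mul_assoc, ← mul_assoc]; exact mul_mem n (inv_mem (h.f2_nv hv hM' h2))⟩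
    rw [h.inf_normalizer_eq_bot hM hM' hne hA AM (Ad.trans h2) h0, mem_bot, inv_mul_eq_one] at m
    exact m.symm
  have rr : ⁅rad D M, rad D M⁆ ≤ rad D M := Solv.commutator_le_of_le_normalizer le_normalizer
  have s2 : rad D M ⊓ centralizer {v} ≤ 𝐂[rad D (centralizer {v})] := by
    refine (h.f2_W hM hA AM vA).trans (sup_le ?_ (z.trans (centralizer_anti (r1.trans (rad_le M)))))
    rw [← commutator_eq_bot_iff_le_centralizer, eq_bot_iff, ← p3]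
    exact le_inf ((Solv.commutator_le_of_le_normalizer le_normalizer).trans r0)
      ((commutator_mono r1 r1).trans p2)
  have od := h.odd_of_isPGroup (h.rad_pg hM.ne_top)
  have s3 : rad D M ≤ 𝐂[rad D (centralizer {v})] := fun x hx => by
    obtain ⟨w, hw, c, hc, e1, e2, rfl⟩ := exists_inv_mul od (f2_sq hv) vR hx
    refine mul_mem (fun y hy => commutatorElement_eq_one_iff_mul_comm.1 ?_) (s2 ⟨hc, f2_mem e2⟩)
    have m := commutator_mem_commutator (r1 hy) hw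
    have e3 := s1 _ ⟨rr m, p2 m⟩
    have e4 := z ⟨rr m, p2 m⟩ w (rad_le M hw)
    rw [conjugate_commutatorElement, e1, f2_fix (rad_le _ hy),
      show ⁅y, w⁻¹⁆ = (w⁻¹ * (⁅y, w⁆ * w))⁻¹ by simp only [commutatorElement_def]; group, ← e4,
      inv_mul_cancel_left, inv_eq_iff_mul_eq_one, ← pow_two] at e3
    exact orderOf_eq_one_iff.1 (Nat.Coprime.eq_one_of_dvd (Nat.Coprime.coprime_dvd_left
      (orderOf_dvd_natCard _ (rr m)) (Nat.coprime_two_right.2 od)) (orderOf_dvd_of_pow_eq_one e3))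
  rw [h.blk_eq hM hA AM]
  exact sup_le (s3.trans (centralizer_le_normalizer' _)) ((f2_le vA).trans (h.le_normalizer_rad _))

/-- PROOF.  Take a point `A` centralised by `v` (`exists_cent`), `A ≤ dcl D C(v)`.  Suppose `M ≠ M'`;
`⊥ ≠ R_v ≤ R₀ = R ⊓ R'` (`rad_cent_ne_bot`, `rad_le_rad`); use `pair`.  `v` normalises every block
containing `dcl D C(v)` (`mem_normalizer_dcl`, `Blk.eq`).  Claim (for both blocks): `R ≤ 𝐂[R_v]`.
For `c ∈ Z`: `c` centralises `M ≥ dcl D C(v)` (`cent_rad`), so the block `cj(c, M')` contains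
`dcl D C(v)` and is normalised by `v`; so `d = c⁻¹ * (v c v⁻¹) ∈ Z ⊓ 𝐍[M'] = ⊥`
(`inf_normalizer_eq_bot`): `v` centralises `Z`.  For `x ∈ R` write `x = w * c'` (`exists_inv_mul`).
`c' ∈ W = R ⊓ C(v) = ⁅W, A⁆ ⊔ (W ⊓ 𝐂[A]) ≤ R_v ⊔ Z`, which centralises `R_v` (`R₀` is commutative as
`⁅R₀, R₀⁆ ≤ R₀ ⊓ 𝐂[A] = ⊥`).  For `y ∈ R_v`, `e = ⁅y, w⁆ ∈ Z` is central in `R` and fixed by `v`, while
`v e v⁻¹ = ⁅y, w⁻¹⁆ = e⁻¹`; `e * e = 1`, `e = 1`.  So `M, M' ≤ 𝐍[R_v] ≠ ⊤`, `M' ≤ dcl D 𝐍[R_v] ≤ M`. -/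
theorem blk_unique {v : G} (hv : orderOf v = 2) (hM : Blk D M) (hM' : Blk D M')
    (h1 : dcl D (centralizer {v}) ≤ M) (h2 : dcl D (centralizer {v}) ≤ M') : M = M' := by
  by_contra hne
  have n := h.normalizer_ne_top (h.rad_pg (h.cent_ne_top (f2_ne hv))) (h.rad_cent_ne_bot hv)
  exact hne (hM'.eq_of_le hM (hM'.eq.ge.trans ((dcl_mono (h.f2_side hv hM' hM (Ne.symm hne) h2 h1)).trans
    (hM.max _ n (h.f2_side hv hM hM' hne h1 h2))))).symm

/-- PROOF.  Let `ζ = Z` if `Z ≠ ⊥` and `ζ = R` otherwise.  Claim: an involution `s ∈ 𝐂[A] ⊓ 𝐍[M]` with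
`ζ ⊓ C(s) ≠ ⊥` has `dcl D C(s) ≤ M`.  `Z ≠ ⊥`: `le_blk` with `H = C(s)`.  `Z = ⊥`:
`W = R ⊓ C(s) = ⁅W, A⁆ ≤ R_s`, so `rad_le_of_norm` gives `R_s ≤ R`, `dcl D C(s) = R_s ⊔ A ≤ M`.
If `v` and `w` both fail then both invert `ζ` (`exists_inv_mul`), so `v * w` centralises `ζ ≠ ⊥`. -/
theorem line3 (hM : Blk D M) (hA : A ∈ D) (hAM : A ≤ M) (hR : rad D M ≠ ⊥) {v w : G}
    (hv : orderOf v = 2) (hw : orderOf w = 2) (hvw : orderOf (v * w) = 2) (hvA : v ∈ 𝐂[A])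
    (hwA : w ∈ 𝐂[A]) (hvM : v ∈ 𝐍[M]) (hwM : w ∈ 𝐍[M]) : dcl D (centralizer {v}) ≤ M ∨
      dcl D (centralizer {w}) ≤ M ∨ dcl D (centralizer {v * w}) ≤ M := by
  obtain ⟨ζ, z0, z1, z2, z3⟩ : ∃ ζ : Subgroup G, ζ ≠ ⊥ ∧ ζ ≤ rad D M ∧
      (∀ s ∈ 𝐂[A], s ∈ 𝐍[M] → s ∈ 𝐍[ζ]) ∧ ∀ s ∈ 𝐂[A], s ≠ 1 → ζ ⊓ centralizer {s} ≠ ⊥ →
        dcl D (centralizer {s}) ≤ M := by
    by_cases c : rad D M ⊓ 𝐂[A] = ⊥
    · refine ⟨_, hR, le_rfl, fun s _ b => h.normalizer_le_rad M b, fun s a s1 b => ?_⟩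
      have w := h.f2_W hM hA hAM a
      rw [c, sup_bot_eq] at w
      rw [h.dcl_eq (h.cent_ne_top s1) hA (f2_le a)]
      exact sup_le ((h.rad_le_of_norm hM hA hAM (h.cent_ne_top s1) (f2_le a) (c.le.trans bot_le)
        (.inr fun d => b (le_bot_iff.1 (d ▸ le_inf w inf_le_left)))).trans (rad_le M)) hAM
    · refine ⟨_, c, inf_le_left, fun s a b => le_normalizer_inf
        (zpowers_le.2 (h.normalizer_le_rad M b)) (zpowers_le.2 (le_normalizer a)) (mem_zpowers s),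
        fun s a s1 b => ?_⟩
      obtain ⟨⟨x, x1, x2⟩, x0⟩ := ne_bot_iff_exists_ne_one.1 b
      exact h.le_blk hM hA hAM x1 (fun e => x0 (Subtype.ext e)) (h.cent_ne_top s1) (f2_le a)
        (h.le_normalizer_dcl _ x2)
  have od := h.odd_of_isPGroup ((h.rad_pg hM.ne_top).to_le z1)
  have k : ∀ s ∈ 𝐂[A], s ∈ 𝐍[M] → orderOf s = 2 → ¬ dcl D (centralizer {s}) ≤ M →
      ∀ x ∈ ζ, s * x * s⁻¹ = x⁻¹ := fun s a b o n x hx => by
    obtain ⟨w, hw, c, hc, e1, e2, rfl⟩ := exists_inv_mul od (f2_sq o) (z2 s a b) hx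
    have : c ∈ ζ ⊓ centralizer {s} := ⟨hc, f2_mem e2⟩
    rw [not_not.1 (mt (z3 s a (f2_ne o)) n), mem_bot] at this
    rwa [this, mul_one]
  by_cases c1 : dcl D (centralizer {v}) ≤ M
  · exact .inl c1
  by_cases c2 : dcl D (centralizer {w}) ≤ M
  · exact .inr (.inl c2)
  refine .inr (.inr (z3 _ (mul_mem hvA hwA) (f2_ne hvw) ?_))
  rwa [inf_eq_left.2 fun x hx => f2_mem (by
    rw [show v * w * x * (v * w)⁻¹ = v * (w * x * w⁻¹) * v⁻¹ by group, k w hwA hwM hw c2 x hx,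
      k v hvA hvM hv c1 _ (inv_mem hx), inv_inv])]

/-- PROOF.  `b t` = the unique block containing `dcl D C(t)` (`exists_blk`, `blk_unique`; e.g.
`b t = sSup {M | Blk D M ∧ dcl D C(t) ≤ M}`), `f t = rad D (b t) ≥ R_t ≠ ⊥`.  Equivariance: `blk_cj`,
`dcl_cj`, `rad_cj`, `centralizer_singleton_conj`; so `C(t) ≤ 𝐍[b t]`.  Let `t, u ∈ E` with
`b t ≠ b u` (so `t ≠ u`), `A` a point centralised by `E`, `s ∈ E` outside `{1, t, u, t u}`.  On each
of the 7 lines `{v, w, v w}` of the Fano plane `{t, u, t u, s, t s, u s, t u s}` some point has block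
`b t` and some point has block `b u` (`line3`, `blk_unique`); colour a point by "its block is `b t`":
no line is monochromatic, which is impossible (finite case check). -/
theorem exists_f : ∃ f : G → Subgroup G,
    (∀ t : G, orderOf t = 2 → IsPGroup q (f t) ∧ f t ≠ ⊥) ∧
    (∀ t g : G, orderOf t = 2 → f (g * t * g⁻¹) = cj(g, f t)) ∧
    ∀ E : Subgroup G, IsElementaryAbelian 2 E → 8 ≤ Nat.card E →
      ∀ t ∈ E, ∀ u ∈ E, t ≠ 1 → u ≠ 1 → f t = f u := by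
  have ex : ∀ t : G, ∃ M, orderOf t = 2 → Blk D M ∧ dcl D (centralizer {t}) ≤ M := fun t => by
    by_cases ht : orderOf t = 2
    · obtain ⟨M, hM⟩ := exists_blk (D := D) (h.cent_ne_top (f2_ne ht))
      exact ⟨M, fun _ => hM⟩
    · exact ⟨⊥, fun e => absurd e ht⟩
  choose b hb using ex
  have eqv : ∀ t g : G, orderOf t = 2 → b (g * t * g⁻¹) = cj(g, b t) := fun t g ht => by
    have o : orderOf (g * t * g⁻¹) = 2 := by
      rw [← ht]; exact (MulAut.conj g).orderOf_eq t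
    refine h.blk_unique o (hb _ o).1 (h.blk_cj (hb _ ht).1 g) (hb _ o).2 ?_
    rw [centralizer_singleton_conj, h.dcl_cj]
    exact cj_mono g (hb _ ht).2
  have ne : ∀ t : G, orderOf t = 2 → rad D (b t) ≠ ⊥ := fun t ht c =>
    h.rad_cent_ne_bot ht (le_bot_iff.1 (c ▸ rad_le_rad (hb t ht).2))
  refine ⟨fun t => rad D (b t), fun t ht => ⟨h.rad_pg (hb t ht).1.ne_top, ne t ht⟩,
    fun t g ht => by simp only [eqv t g ht, h.rad_cj], fun E hE h8 t ht u hu t1 u1 => congrArg _ ?_⟩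
  have := Fact.mk Nat.prime_two
  have cm : ∀ x ∈ E, ∀ y ∈ E, x * y = y * x := fun x hx y hy =>
    congrArg Subtype.val (hE.1.is_comm.comm ⟨x, hx⟩ ⟨y, hy⟩)
  have o : ∀ x ∈ E, x ≠ 1 → orderOf x = 2 := fun x hx => orderOf_eq_prime (hE.2 x hx)
  obtain ⟨A, hA, e⟩ := h.exists_cent (T := E) (isPGroup_iff.2 fun x hx => ⟨1, hE.2 x hx⟩)
  have ln : ∀ t ∈ E, t ≠ 1 → ∀ v ∈ E, ∀ w ∈ E, v ≠ 1 → w ≠ 1 → v * w ≠ 1 →
      b v = b t ∨ b w = b t ∨ b (v * w) = b t := fun t ht t1 v hv w hw v1 w1 vw => by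
    have B := hb t (o t ht t1)
    have n : ∀ x ∈ E, x ∈ 𝐍[b t] := fun x hx => by
      rw [← cj_eq_iff, ← eqv t x (o t ht t1), cm x hx t ht, mul_inv_cancel_right]
    have k : ∀ x ∈ E, x ≠ 1 → dcl D (centralizer {x}) ≤ b t → b x = b t := fun x hx x1 =>
      h.blk_unique (o x hx x1) (hb x (o x hx x1)).1 B.1 (hb x (o x hx x1)).2
    exact (h.line3 B.1 hA ((le_dcl hA (f2_le (e ht))).trans B.2) (ne t (o t ht t1)) (o v hv v1)
      (o w hw w1) (o _ (mul_mem hv hw) vw) (e hv) (e hw) (n v hv) (n w hw)).imp (k v hv v1)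
      (Or.imp (k w hw w1) (k _ (mul_mem hv hw) vw))
  by_contra c
  have tt : t * t = 1 := f2_sq (o t ht t1)
  have tu : t * u ≠ 1 := fun d => c (by rw [mul_left_cancel (tt.trans d.symm)])
  obtain ⟨s, hs, ns⟩ : ∃ s ∈ E, s ∉ ({1, t⁻¹, u⁻¹, (t * u)⁻¹} : Set G) := by
    by_contra! d
    have d1 := Set.ncard_le_ncard (s := (E : Set G)) d
    have d2 := Set.ncard_insert_le (1 : G) {t⁻¹, u⁻¹, (t * u)⁻¹}
    have d3 := Set.ncard_insert_le t⁻¹ {u⁻¹, (t * u)⁻¹}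
    have d4 := Set.ncard_insert_le u⁻¹ {(t * u)⁻¹}
    rw [Set.ncard_singleton] at d4
    have d5 : (E : Set G).ncard = Nat.card E := (Nat.card_coe_set_eq _).symm
    omega
  simp only [Set.mem_insert_iff, Set.mem_singleton_iff, not_or] at ns
  obtain ⟨s1, s2, s3, s4⟩ := ns
  have ts : t * s ≠ 1 := fun d => s2 (eq_inv_of_mul_eq_one_right d)
  have us : u * s ≠ 1 := fun d => s3 (eq_inv_of_mul_eq_one_right d)
  have tus : t * u * s ≠ 1 := fun d => s4 (eq_inv_of_mul_eq_one_right d)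
  have e1 : t * (u * s) = t * u * s := (mul_assoc _ _ _).symm
  have e2 : u * (t * s) = t * u * s := by rw [← mul_assoc, cm u hu t ht]
  have e3 : t * u * (t * s) = u * s := by
    rw [cm t ht u hu, mul_assoc, ← mul_assoc t, tt, one_mul]
  have l : ∀ v ∈ E, ∀ w ∈ E, v ≠ 1 → w ≠ 1 → ∀ x, v * w = x → x ≠ 1 →
      (b v = b t ∨ b w = b t ∨ b x = b t) ∧ ¬ (b v = b t ∧ b w = b t ∧ b x = b t) := by
    rintro v hv w hw v1 w1 _ rfl vw
    refine ⟨ln t ht t1 v hv w hw v1 w1 vw, fun ⟨a1, a2, a3⟩ => c ?_⟩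
    rcases ln u hu u1 v hv w hw v1 w1 vw with d | d | d
    exacts [a1.symm.trans d, a2.symm.trans d, a3.symm.trans d]
  have l1 := l t ht u hu t1 u1 _ rfl tu
  have l2 := l t ht s hs t1 s1 _ rfl ts
  have l3 := l u hu s hs u1 s1 _ rfl us
  have l4 := l _ (mul_mem ht hu) s hs tu s1 _ rfl tus
  have l5 := l t ht _ (mul_mem hu hs) t1 us _ e1 tus
  have l6 := l u hu _ (mul_mem ht hs) u1 ts _ e2 tus
  have l7 := l _ (mul_mem ht hu) _ (mul_mem ht hs) tu ts _ e3 us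
  generalize (b t = b t) = p1, (b u = b t) = p2, (b (t * u) = b t) = p3, (b s = b t) = p4,
    (b (t * s) = b t) = p5, (b (u * s) = b t) = p6, (b (t * u * s) = b t) = p7 at l1 l2 l3 l4 l5 l6 l7
  clear * - l1 l2 l3 l4 l5 l6 l7
  grind

end Ce

end Cfsg.Agent.FrD
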