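import Mathlib
import Cfsg.Agent.FrD.Defs
import Cfsg.Agent.Core2.Dich1
import Cfsg.Agent.Transfer.ThompsonExtremal
import Cfsg.Agent.S3224
import Cfsg.Agent.S1221

/-! S3257: two lemmas on functions defined on involutions. -/

set_option autoImplicit false

namespace Cfsg.Agent.FrD

open Subgroup Cfsg Cfsg.Agent.PLocal.Amb
open scoped commutatorElement

variable {G : Type*} [Group G] [Finite G]

/-- (Filled via `Core2.exists_disc` / `Disc.exists_sq_eq` instead of S3224.)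
PROOF.  Two commuting involutions lie in a Sylow 2-subgroup `S` (of 2-rank `≥ 3`: conjugate an
elementary abelian subgroup of order `> 4` into it).  Let `U ≤ S` be a normal four-group
(`Core2.exists_normal_klein`), `1 ≠ z ∈ U ⊓ 𝐂[S]` (`inf_centralizer_ne_bot`), `T = S ⊓ 𝐂[U]`.  Claim:
`f u = f z` for all involutions `u ∈ S`.
(a) `u ∈ T`: if `u ∈ U` use `Core2.exists_ea_ge_normal_klein`, else `U ⊔ zpowers u`
(`Core2.ea_sup_zpowers`, `Core2.eight_le_card_sup`).
(b) Suppose `u ∈ S`, `f u ≠ f z`, so `u ∉ T` and `T.relIndex S = 2` (`S` fixes `z` and permutes the other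
two involutions of `U`; products and squares of elements outside `T` lie in `T`).
`exists_conj_mem_extremal` (Transfer/ThompsonExtremal, with the 2-group `S ⊓ C(u)`) gives `g` with
`u' = g u g⁻¹ ∈ T`, `v = g z g⁻¹ ∈ S`.  `f u' = f z` by (a) and `f u' ≠ f v` by `hc` (apply it with
`g⁻¹`), so `f v ≠ f z`, `v ∉ T`.
(c) Now `v` is conjugate to `z ∈ Z(S)`: `cj(g⁻¹, S ⊓ C(v)) ≤ C(z)` is a 2-group and `S` is Sylow in
`C(z)`, so there is `k` with `k v k⁻¹ = z`, `cj(k, S ⊓ C(v)) ≤ S`.  `z' = k z k⁻¹ ∈ S` has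
`f z' ≠ f z` (`hc`), so `z' ∉ T`.  `T₀ = T ⊓ C(v)` has `z` as its only involution (another one, `w`,
gives the elementary abelian group generated by `z, w, v` of order 8, so `f v = f z`).  If `y ∈ T₀`,
`y ≠ 1, z`, then `orderOf y = 2 ^ (j + 2)` and `z = y ^ 2 ^ (j + 1)` is the square of some `y' ∈ T₀`;
`z' = (k y' k⁻¹) ^ 2 ∈ T`, false.  So `T₀ = {1, z}`, `S ⊓ C(v) = {1, z, v, z v}` has order 4, and by S3224
`S` is dihedral, quasi-dihedral or of order 4, so has 2-rank `≤ 2` (`ca find PRankLE`; such a group has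
a cyclic subgroup of index 2, which meets an elementary abelian group in at most 2 elements). -/
theorem eq_of_commute (hG : pResidual 2 G = ⊤) (hr : ¬ PRankLE 2 2 G) {α : Type*} (f : G → α)
    (hc : ∀ t u g : G, orderOf t = 2 → orderOf u = 2 → f t = f u →
      f (g * t * g⁻¹) = f (g * u * g⁻¹))
    (h8 : ∀ E : Subgroup G, IsElementaryAbelian 2 E → 8 ≤ Nat.card E →
      ∀ t ∈ E, ∀ u ∈ E, t ≠ 1 → u ≠ 1 → f t = f u)
    {t u : G} (ht : orderOf t = 2) (hu : orderOf u = 2) (htu : Commute t u) : f t = f u := by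
  have hc' : ∀ x y g : G, orderOf x = 2 → orderOf y = 2 → f (g * x * g⁻¹) = f (g * y * g⁻¹) →
      f x = f y := fun x y g hx hy h => by
    have := hc _ _ g⁻¹ (by rw [orderOf_conj', hx]) (by rw [orderOf_conj', hy]) h
    simpa [mul_assoc] using this
  obtain ⟨S, hS, hle⟩ := exists_isSyl_ge (Inv.CoreSig.isPGroup_of_ea (Core2.ea_sup_zpowers
    (PLocal.KConn.ea_zpowers (Inv.sq_of_orderOf_two ht)) hu (by
      rintro _ ⟨n, rfl⟩
      exact htu.zpow_left n))) (le_top : _ ≤ ⊤)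
  by_cases hconn : IsFourConnected S
  · obtain ⟨F, h1, h2, h3, h4⟩ := Core2.exists_ea_mem_mem hS hconn hr ht hu htu
    exact h8 F h3 h4 t h1 u h2 (Inv.ne_one_of_orderOf_two ht) (Inv.ne_one_of_orderOf_two hu)
  obtain ⟨U, z, d⟩ := Core2.exists_disc hS (Core2.not_pRankLE_sylow hS hr) hconn
  have ha : ∀ x, x ∈ 𝐂[U] → orderOf x = 2 → f x = f z := fun x hx h2 => by
    by_cases hxU : x ∈ U
    · obtain ⟨F, -, h3, h4, h5⟩ := Core2.exists_ea_ge_normal_klein d.rank d.le d.norm d.klein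
      exact h8 F h4 h5 x (h3 hxU) z (h3 d.mem) (Inv.ne_one_of_orderOf_two h2) d.ne_one
    · exact h8 _ (Core2.ea_sup_zpowers (Inv.CoreSig.ea_of_klein d.klein) h2 hx)
        (Core2.eight_le_card_sup d.klein h2 hx hxU) x (mem_sup_right (mem_zpowers x)) z
        (mem_sup_left d.mem) (Inv.ne_one_of_orderOf_two h2) d.ne_one
  have key : ∀ g : G, g * z * g⁻¹ ∈ S → f (g * z * g⁻¹) = f z := fun g hg => by
    have h2 : orderOf (g * z * g⁻¹) = 2 := by rw [orderOf_conj', d.ord]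
    by_cases hv : g * z * g⁻¹ ∈ 𝐂[U]
    · exact ha _ hv h2
    obtain ⟨y, hy, h3, h4⟩ := d.exists_sq_eq hg h2 hv
    have hSz : IsSyl 2 S (centralizer {z}) :=
      hS.mono (fun s hs => mem_centralizer_singleton_iff.2 (d.cent s hs)) le_top
    obtain ⟨c, hc1, hc2⟩ := hSz.exists_cj_le
      (isPGroup_cj g⁻¹ (hS.pgrp.to_le (zpowers_le.2 hy))) (cj_le_iff_forall.2 (by
        rintro _ ⟨n, rfl⟩
        have h5 : y ^ n * (g * z * g⁻¹) = g * z * g⁻¹ * y ^ n := Commute.zpow_left h3 n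
        rw [mem_centralizer_singleton_iff]
        calc _ = g⁻¹ * (y ^ n * (g * z * g⁻¹)) * g := by group
          _ = _ := by rw [h5]; group))
    have h5 := d.sq_mem (hc2 (conj_mem_cj c (conj_mem_cj g⁻¹ (mem_zpowers y))))
    rw [conj_mul, conj_mul, h4] at h5
    have h6 := ha _ h5 (by rw [orderOf_conj', orderOf_conj', d.ord])
    refine hc' _ _ (c * g⁻¹) h2 d.ord ?_
    rw [show c * g⁻¹ * z * (c * g⁻¹)⁻¹ = c * (g⁻¹ * z * g⁻¹⁻¹) * c⁻¹ by group, h6,
      show c * g⁻¹ * (g * z * g⁻¹) * (c * g⁻¹)⁻¹ = c * z * c⁻¹ by group,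
      mem_centralizer_singleton_iff.1 hc1, mul_inv_cancel_right]
  have hb : ∀ x ∈ S, orderOf x = 2 → f x = f z := fun x hx h2 => by
    obtain ⟨g, h3, h4⟩ := Transfer.exists_conj_mem_extremal hG (P := S) (Q := 𝐂[U] ⊓ S)
      (Nat.odd_iff.2 (Nat.two_dvd_ne_zero.1 (relIndex_top_right S ▸ hS.not_dvd_relIndex)))
      inf_le_right (by rw [inf_relIndex_right, d.idx]) (Inv.sq_of_orderOf_two h2)
      (Inv.isPGroup_zpowers_of_orderOf_two d.ord) (by
        rintro _ ⟨n, rfl⟩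
        exact Commute.zpow_left (d.cent x hx).symm n)
    refine hc' _ _ g h2 d.ord ?_
    rw [ha _ h3.1 (by rw [orderOf_conj', h2]), key g (h4 (conj_mem_cj g (mem_zpowers z)))]
  rw [hb t (hle (mem_sup_left (mem_zpowers t))) ht, hb u (hle (mem_sup_right (mem_zpowers u))) hu]

/-- PROOF.  All involutions of a 2-subgroup `S` have the same `f` (compare with an involution of
`Z(S)`).  Take a Sylow 2-subgroup `S ∋ z`, `H = 𝐍[f z]`; `S ≤ H` as `cj(s, f z) = f (s z s⁻¹) = f z`.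
Every involution `t ∈ H` has `f t = f z` (conjugate `t` into `S` by an element of `H`).  The same
holds for `z' = g z g⁻¹`, `𝐍[f z'] = cj(g, H)`; so an involution in `H ⊓ cj(g, H)` gives
`f z = cj(g, f z)`, `g ∈ H`.  `H ≠ ⊤` (else `f z ≤ oddCore G`).  So `H` is strongly embedded and
S1221 gives `f z ≤ (oddCore H).map _ ≤ oddCore G = ⊥`. -/
theorem se_false (hO : oddCore G = ⊥) (f : G → Subgroup G)
    (h1 : ∀ t : G, orderOf t = 2 → Odd (Nat.card (f t)) ∧ f t ≠ ⊥)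
    (hc : ∀ t g : G, orderOf t = 2 → f (g * t * g⁻¹) = cj(g, f t))
    (he : ∀ t u : G, orderOf t = 2 → orderOf u = 2 → Commute t u → f t = f u)
    {z : G} (hz : orderOf z = 2) : False := by
  obtain ⟨S, hS, hle⟩ := exists_isSyl_ge (Inv.isPGroup_zpowers_of_orderOf_two hz) (le_top : _ ≤ ⊤)
  have hzS : z ∈ S := hle (mem_zpowers z)
  obtain ⟨c, -, hc2, hcc⟩ := Inv.exists_central_involution_of_isPGroup hS.pgrp (by
    rintro rfl
    exact Inv.ne_one_of_orderOf_two hz (mem_bot.1 hzS))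
  have h2 : ∀ s ∈ S, orderOf s = 2 → f s = f z := fun s hs h =>
    (he s c h hc2 (hcc s hs)).trans (he z c hz hc2 (hcc z hzS)).symm
  have hSH : S ≤ 𝐍[f z] := fun s hs => cj_eq_iff.1 (by
    rw [← hc z s hz, h2 _ (mul_mem (mul_mem hs hzS) (inv_mem hs)) (by rw [orderOf_conj', hz])])
  have h3 : ∀ t ∈ 𝐍[f z], orderOf t = 2 → f t = f z := fun t ht h => by
    obtain ⟨k, hk, h4⟩ := (hS.mono hSH le_top).exists_cj_le
      (Inv.isPGroup_zpowers_of_orderOf_two h) (zpowers_le.2 ht)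
    rw [← cj_inj (g := k), ← hc t k h, cj_of_mem_normalizer hk,
      h2 _ (h4 (conj_mem_cj k (mem_zpowers t))) (by rw [orderOf_conj', h])]
  refine (h1 z hz).2 (eq_bot_iff.2 (hO ▸ ?_))
  by_cases hT : 𝐍[f z] = ⊤
  · exact Inv.le_pPrimeCore_two (normalizer_eq_top_iff.1 hT) (h1 z hz).1
  refine Bender.le_oddCore_of_normalized (H := 𝐍[f z]) (Inv.isStronglyEmbedded_iff.2
    ⟨hT, even_iff_two_dvd.2 (hz ▸ orderOf_dvd_natCard _ (hSH hzS)), fun t ht h g hg => cj_eq_iff.1 ?_⟩)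
    le_normalizer (h1 z hz).1 fun y hy x hx => conj_mem_of_mem_normalizer hy hx
  rw [← h3 t ht h, ← hc t g h, h3 _ hg (by rw [orderOf_conj', h]), h3 t ht h]

end Cfsg.Agent.FrD
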