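import Mathlib
import Cfsg.Agent.K.InvMain
import Cfsg.Agent.S2690
import Cfsg.Agent.S2697

/-! S3257: two facts on `L₂(r)`. -/

set_option autoImplicit false

namespace Cfsg.Agent.FrD

open Subgroup Cfsg

open Matrix in
theorem k2_mat {F : Type} [Field F] (h2 : (2 : F) ≠ 0) {T N : Matrix (Fin 2) (Fin 2) F}
    (hN : IsNilpotent N) (hT : T.det = 1) (hc : T * N = N * T) {d : F} (hd : scalar (Fin 2) d = T * T) :
    N = 0 ∨ scalar (Fin 2) (T 0 0) = T := by
  have t0 := (Matrix.isNilpotent_trace_of_isNilpotent hN).eq_zero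
  have d0 : N.det = 0 := by
    obtain ⟨k, hk⟩ := hN
    have := congrArg det hk
    rw [det_pow, det_zero] at this
    exact eq_zero_of_pow_eq_zero this
  rw [trace_fin_two] at t0
  rw [det_fin_two] at d0 hT
  have c00 := congrFun (congrFun hc 0) 0
  have c01 := congrFun (congrFun hc 0) 1
  have c10 := congrFun (congrFun hc 1) 0
  have e00 := congrFun (congrFun hd 0) 0
  have e01 := congrFun (congrFun hd 0) 1
  have e10 := congrFun (congrFun hd 1) 0
  have e11 := congrFun (congrFun hd 1) 1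
  simp [Matrix.mul_apply, Fin.sum_univ_two] at c00 c01 c10 e00 e01 e10 e11
  by_cases h : T 0 0 + T 1 1 = 0
  · left
    have w : T 1 1 = -T 0 0 := by linear_combination h
    have v : N 1 1 = -N 0 0 := by linear_combination t0
    rw [w] at hT c01 c10
    rw [v] at d0 c01 c10
    have f1 : T 0 0 * N 0 1 = N 0 0 * T 0 1 := mul_left_cancel₀ h2 (by linear_combination c01)
    have f2 : T 1 0 * N 0 0 = T 0 0 * N 1 0 := mul_left_cancel₀ h2 (by linear_combination c10)
    have b0 : N 0 1 = 0 := pow_eq_zero_iff (two_ne_zero) |>.1 (by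
      linear_combination (N 0 1 ^ 2) * (-hT) - (T 0 0 * N 0 1 + N 0 0 * T 0 1) * f1 +
        (N 0 1 * T 0 1) * c00 + T 0 1 ^ 2 * d0)
    have c0 : N 1 0 = 0 := pow_eq_zero_iff (two_ne_zero) |>.1 (by
      linear_combination (N 1 0 ^ 2) * (-hT) + (T 0 0 * N 1 0 + N 0 0 * T 1 0) * f2 -
        (N 1 0 * T 1 0) * c00 + T 1 0 ^ 2 * d0)
    have a0 : N 0 0 = 0 := pow_eq_zero_iff (two_ne_zero) |>.1 (by
      rw [b0] at d0; linear_combination -d0)
    ext i j
    fin_cases i <;> fin_cases j <;> simp [a0, b0, c0, v]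
  · right
    have q0 : T 0 1 = 0 := mul_right_cancel₀ h (by linear_combination -e01)
    have r0 : T 1 0 = 0 := mul_right_cancel₀ h (by linear_combination -e10)
    have w : T 1 1 = T 0 0 := mul_right_cancel₀ h (by linear_combination e00 - e11)
    ext i j
    fin_cases i <;> fin_cases j <;> simp [q0, r0, w]

/-- the upper unitriangular matrices -/
def k2u (F : Type) [Field F] : Multiplicative F →* Matrix.SpecialLinearGroup (Fin 2) F where
  toFun c := ⟨!![1, c.toAdd; 0, 1], by simp [Matrix.det_fin_two]⟩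
  map_one' := Subtype.ext (by simp [Matrix.one_fin_two])
  map_mul' a b := Subtype.ext (by
    change !![1, (a * b).toAdd; 0, 1] = !![1, a.toAdd; 0, 1] * !![1, b.toAdd; 0, 1]
    simp [add_comm])

theorem k2u_coe {F : Type} [Field F] (c : Multiplicative F) :
    (k2u F c).1 = !![1, c.toAdd; 0, 1] := rfl

/-- PROOF.  An element `x` of order `s` (Cauchy) commuting with `t` lifts to a unipotent `X ≠ 1` of
`SL₂`, `t` lifts to `T` with `T * T = -1`, and `T X = ± X T`; traces / orders give `T X = X T`, so `T`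
commutes with the nilpotent `X - 1 ≠ 0`, `T = a + b (X - 1)`, `det T = a ^ 2 = 1`, and `T * T = -1` forces
`a ^ 2 = -1`: false as `2 ≠ 0`.  (The library may already have `|C(t)| = r ± 1` or "the centraliser
of an element of order `s` in `PSL₂` is an `s`-group": `ca find psl2`, Class/PSL2*.) -/
theorem not_dvd_card_cent_psl2 {F : Type} [Field F] [Fintype F] {s : ℕ} [Fact s.Prime] [CharP F s]
    (h2 : s ≠ 2) (t : Matrix.ProjectiveSpecialLinearGroup (Fin 2) F) (ht : orderOf t = 2) :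
    ¬ s ∣ Nat.card (centralizer ({t} : Set (Matrix.ProjectiveSpecialLinearGroup (Fin 2) F))) := by
  intro hd
  have hs : s.Prime := Fact.out
  have ho : Odd s := hs.odd_of_ne_two h2
  have h2' : (2 : F) ≠ 0 := fun e => h2 ((Nat.prime_dvd_prime_iff_eq hs Nat.prime_two).1
    ((CharP.cast_eq_zero_iff F s 2).1 (by exact_mod_cast e)))
  have pw : ∀ r : F, r ^ Fintype.card (Fin 2) = 1 → r ^ s = r := fun r hr => by
    obtain ⟨k, rfl⟩ := ho
    rw [pow_succ, pow_mul, show r ^ 2 = 1 by simpa using hr, one_pow, one_mul]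
  obtain ⟨⟨x, hx⟩, h1⟩ := exists_prime_orderOf_dvd_card' s hd
  rw [← Subgroup.orderOf_coe] at h1
  obtain ⟨X, rfl⟩ := QuotientGroup.mk_surjective x
  obtain ⟨T, rfl⟩ := QuotientGroup.mk_surjective t
  have k1 : X ^ s ∈ center _ := (QuotientGroup.eq_one_iff _).1 (by
    rw [QuotientGroup.mk_pow, ← h1]; exact pow_orderOf_eq_one _)
  have k2 : T * T ∈ center _ := (QuotientGroup.eq_one_iff _).1 (by
    have := pow_orderOf_eq_one (T : Matrix.ProjectiveSpecialLinearGroup (Fin 2) F)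
    rwa [ht, sq] at this)
  have k3 : T * X * T⁻¹ * X⁻¹ ∈ center _ := (QuotientGroup.eq_one_iff _).1 (by
    rw [QuotientGroup.mk_mul, QuotientGroup.mk_mul, QuotientGroup.mk_mul, QuotientGroup.mk_inv,
      QuotientGroup.mk_inv, ← mem_centralizer_singleton_iff.1 hx]; group)
  have k4 : (T * X * T⁻¹ * X⁻¹) ^ s = 1 := by
    have c : Commute (T * X * T⁻¹ * X⁻¹) X := (mem_center_iff.1 k3 X).symm
    have := c.mul_pow s
    rw [inv_mul_cancel_right, conj_pow, mem_center_iff.1 k1 T, mul_inv_cancel_right] at this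
    exact (mul_eq_right.1 this.symm)
  obtain ⟨r, r2, hr⟩ := Matrix.SpecialLinearGroup.mem_center_iff.1 k3
  have k5 : T * X * T⁻¹ * X⁻¹ = 1 := by
    rw [← k4]
    apply Subtype.ext
    rw [Matrix.SpecialLinearGroup.coe_pow, ← hr, ← map_pow, pw r r2]
  obtain ⟨e, e2, he⟩ := Matrix.SpecialLinearGroup.mem_center_iff.1 k1
  obtain ⟨d, -, hd⟩ := Matrix.SpecialLinearGroup.mem_center_iff.1 k2
  have cm : ∀ Y : Matrix (Fin 2) (Fin 2) F, Commute Y (Matrix.scalar (Fin 2) e) := fun Y =>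
    (Matrix.scalar_commute e (fun _ => Commute.all _ _) Y).symm
  have k6 : Commute T.1 X.1 := by
    have : T * X = X * T := mul_inv_eq_iff_eq_mul.1 (mul_inv_eq_one.1 k5)
    exact congrArg Subtype.val this
  rcases k2_mat h2' (T := T.1) (N := X.1 - Matrix.scalar (Fin 2) e) ⟨s, by
    rw [sub_pow_char_of_commute _ (cm _), ← map_pow, pw e e2, he, Matrix.SpecialLinearGroup.coe_pow,
      sub_self]⟩ T.2 (k6.sub_right (cm _)).eq hd with h | h
  · have : (X : Matrix.ProjectiveSpecialLinearGroup (Fin 2) F) = 1 := (QuotientGroup.eq_one_iff _).2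
      (Matrix.SpecialLinearGroup.mem_center_iff.2 ⟨e, e2, (sub_eq_zero.1 h).symm⟩)
    exact hs.ne_one (by rw [← h1]; exact orderOf_eq_one_iff.2 this)
  · have : (T : Matrix.ProjectiveSpecialLinearGroup (Fin 2) F) = 1 := (QuotientGroup.eq_one_iff _).2
      (mem_center_iff.2 fun Y => Subtype.ext (by
        rw [Matrix.SpecialLinearGroup.coe_mul, Matrix.SpecialLinearGroup.coe_mul, ← h]
        exact (Matrix.scalar_commute _ (fun _ => Commute.all _ _) _).symm.eq))
    rw [this, orderOf_one] at ht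
    exact absurd ht (by decide)

/-- PROOF.  S2690: `β = δ φ γ`; for `n = 2` the inverse-transpose map is conjugation by
`!![0, 1; -1, 0]`, so `β = δ' φ` with `δ'` inner-diagonal and `φ` the field automorphism of `σ`.
`σ = 1`: `β` is induced by `g ∈ GL₂`, `g ^ 2 ∈ Z · SL₂` (`g * g = det g • (..)`: `(det g)⁻¹ • g ^ 2` has
determinant 1), so `β ^ 2` is inner, and `β` is a power of `β ^ 2` (odd order).
`σ ≠ 1`: Inndiag is normal and meets the field automorphisms trivially (see the proofs of S2697,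
S2698, S0813, S2602), so `φ ^ r = 1`, `orderOf φ = r = orderOf β`; S2697 makes `β` conjugate to `φ` by
some `ε ∈ MulAut`.  `φ` normalises the image `U₀` of the upper unitriangular group (an `s`-group) and
moves the class of `!![1, c; 0, 1]` when `σ c ≠ c`; take `U = ε U₀`. -/
theorem aut_psl2 {F : Type} [Field F] [Fintype F] {s : ℕ} [Fact s.Prime] [CharP F s]
    (h4 : 4 ≤ Fintype.card F) (β : MulAut (Matrix.ProjectiveSpecialLinearGroup (Fin 2) F))
    (hβ : (orderOf β).Prime) (h2 : orderOf β ≠ 2) : (∃ y, β = MulAut.conj y) ∨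
      ∃ U : Subgroup (Matrix.ProjectiveSpecialLinearGroup (Fin 2) F), IsPGroup s U ∧
        (∀ x ∈ U, β x ∈ U) ∧ ∃ x ∈ U, β x ≠ x := by
  obtain ⟨π, hπ, -, hk⟩ := KSG.exists_projL2 (F := F)
  have hn : 2 ≤ Fintype.card (Fin 2) := by simp
  by_cases hσ : π β = 1
  · left
    obtain ⟨g, rfl⟩ : β ∈ (KSG.iotaL (Fin 2) F).range := hk ▸ hσ
    have h1 := (KSG.iotaL_mem_inn_iff hn (g ^ 2)).2 ⟨Matrix.GeneralLinearGroup.det g, by simp⟩
    obtain ⟨k, e⟩ := hβ.odd_of_ne_two h2
    have h3 := pow_mem h1 (k + 1)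
    rw [map_pow, ← pow_mul, show 2 * (k + 1) = 2 * k + 1 + 1 by ring, ← e, pow_succ,
      pow_orderOf_eq_one, one_mul] at h3
    obtain ⟨y, hy⟩ := h3
    exact ⟨y, hy.symm⟩
  right
  obtain ⟨σ, hσ'⟩ : ∃ σ, σ = π β := ⟨_, rfl⟩
  rw [← hσ'] at hσ
  have o : orderOf σ = orderOf β := by
    have : Fact (orderOf β).Prime := ⟨hβ⟩
    exact orderOf_eq_prime (by rw [hσ', ← map_pow, pow_orderOf_eq_one, map_one]) hσ
  obtain ⟨ε, -, e⟩ := KSG.field_coset_L hn σ
    (β * (KSG.psiL (Fin 2) F (SemidirectProduct.inr (σ, 1)))⁻¹) (by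
      rw [← hk, MonoidHom.mem_ker, map_mul, map_inv, hπ, ← hσ']; simp)
    (by rw [inv_mul_cancel_right, o, pow_orderOf_eq_one])
  rw [inv_mul_cancel_right] at e
  let u : Multiplicative F →* Matrix.ProjectiveSpecialLinearGroup (Fin 2) F :=
    ε.toMonoidHom.comp ((QuotientGroup.mk' _).comp (k2u F))
  have hu : ∀ c : F, β (u (Multiplicative.ofAdd c)) = u (Multiplicative.ofAdd (σ c)) := fun c => by
    rw [e]
    change ε (KSG.psiL (Fin 2) F (SemidirectProduct.inr (σ, 1)) (ε.symm (ε _))) = ε _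
    rw [MulEquiv.symm_apply_apply]
    refine congrArg ε (KSG.isStdFieldPSL_iff.2 rfl _ _ ?_)
    rw [k2u_coe, k2u_coe]
    ext i j
    fin_cases i <;> fin_cases j <;> simp
  refine ⟨u.range, fun ⟨_, c, rfl⟩ => ⟨1, Subtype.ext ?_⟩, ?_, ?_⟩
  · change u c ^ s ^ 1 = 1
    rw [pow_one, ← map_pow, show c ^ s = 1 from by
      apply Multiplicative.toAdd.injective; simp, map_one]
  · rintro _ ⟨c, rfl⟩
    exact ⟨_, (hu c.toAdd).symm⟩
  · obtain ⟨c, hc⟩ : ∃ c, σ c ≠ c := by
      by_contra n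
      push Not at n
      exact hσ (RingEquiv.ext n)
    refine ⟨_, ⟨Multiplicative.ofAdd c, rfl⟩, fun k => hc ?_⟩
    rw [hu, ← mul_inv_eq_one, ← map_inv, ← map_mul] at k
    obtain ⟨r, -, hr⟩ := Matrix.SpecialLinearGroup.mem_center_iff.1
      ((QuotientGroup.eq_one_iff _).1 (ε.map_eq_one_iff.1 k))
    rw [k2u_coe] at hr
    have := congrFun (congrFun hr 0) 1
    simp at this
    linear_combination -this

end Cfsg.Agent.FrD
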