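import Mathlib
import Cfsg.Agent.K.InvMain

/-! S3257: the core of an involution centraliser in `L₃(r)`, `U₃(r)` (`r` odd) is central in it. -/

set_option autoImplicit false

namespace Cfsg.Agent.FrD

open Subgroup Cfsg

section Aux

open Cfsg.Agent.K Cfsg.Agent.Class Cfsg.Agent.Class.Orth
open scoped commutatorElement

/-- subgroups of odd order normalised by the commutator subgroup of `C(x)` are central in it -/
def K3CG {I : Type*} [Group I] (x : I) : Prop :=
  ∀ R : Subgroup (centralizer ({x} : Set I)), ON R → R ≤ center _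

theorem k3_transfer {A I : Type*} [Group A] [Group I] [Finite I] (ι : A →* I)
    (hι : Function.Injective ι) (hΩ : _root_.commutator I ≤ ι.range)
    (h3 : Nat.card (center A) ∣ 3) (h : ∀ x : A, x * x = 1 → K3CG (ι x)) (t : A ⧸ center A)
    (ht : orderOf t = 2) : oddCore (centralizer ({t} : Set (A ⧸ center A))) ≤ center _ := by
  have := Finite.of_injective ι hι
  have hZ : ∀ z ∈ center A, z ^ 3 = 1 := fun z hz =>
    orderOf_dvd_iff_pow_eq_one.1 ((orderOf_dvd_natCard _ hz).trans h3)
  have ht2 : t ^ 2 = 1 := ht ▸ pow_orderOf_eq_one t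
  obtain ⟨x, hx, rfl⟩ : ∃ x : A, x * x = 1 ∧ (QuotientGroup.mk' (center A) x) = t := by
    obtain ⟨y, rfl⟩ := QuotientGroup.mk_surjective t
    refine ⟨y ^ 3, ?_, ?_⟩
    · rw [← hZ (y ^ 2) ((QuotientGroup.eq_one_iff _).1 ht2)]
      group
    · rw [map_pow, pow_succ', QuotientGroup.mk'_apply, ht2, mul_one]
  have hj : Function.Injective (centMap ι x) := fun a b e =>
    Subtype.ext (hι (congrArg Subtype.val e))
  have hj' : _root_.commutator _ ≤ (centMap ι x).range := fun g hg => by
    obtain ⟨a, ha⟩ := hΩ (map_derivedSeries_le_derivedSeries (Subgroup.subtype _) 1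
      (mem_map_of_mem _ hg))
    refine ⟨⟨a, mem_centralizer_singleton_iff.2 (hι ?_)⟩, Subtype.ext ha⟩
    rw [map_mul, map_mul, ha]
    exact mem_centralizer_singleton_iff.1 g.2
  let π := centMap (QuotientGroup.mk' (center A)) x
  have hπ : Function.Surjective π := by
    rintro ⟨g, hg⟩
    obtain ⟨g, rfl⟩ := QuotientGroup.mk_surjective g
    have hz : ⁅g, x⁆ ∈ center A := by
      rw [← QuotientGroup.eq_one_iff, ← QuotientGroup.mk'_apply, map_commutatorElement,
        commutatorElement_eq_one_iff_mul_comm]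
      exact mem_centralizer_singleton_iff.1 hg
    have h1 := mem_center_iff.1 hz
    have h4 : ⁅g, x⁆ ^ 2 = 1 := by
      have h5 : g * x ^ 2 * g⁻¹ = (⁅g, x⁆ * x) ^ 2 := by
        rw [commutatorElement_def, ← conj_pow]; group
      rw [Commute.mul_pow (h1 x).symm, pow_two x, hx] at h5
      simpa using h5.symm
    have h5 := hZ _ hz
    rw [pow_succ, h4, one_mul, commutatorElement_eq_one_iff_mul_comm] at h5
    exact ⟨⟨g, mem_centralizer_singleton_iff.2 h5⟩, rfl⟩
  obtain ⟨R, hR1, hR2, hR3⟩ := exists_odd_lift π (N := oddCore _) (fun g hg =>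
    mem_center_iff.2 fun a => Subtype.ext (mem_center_iff.1 ((QuotientGroup.eq_one_iff _).1
      (congrArg Subtype.val hg)) a))
    (Nat.coprime_two_right.1 (Grp.pPrimeCore_coprime 2 _))
    (by rw [MonoidHom.range_eq_top.2 hπ]; exact le_top)
  have h1 := h x hx (R.map (centMap ι x)) ⟨by rwa [card_map_of_injective hj],
    hj'.trans (by
      rw [MonoidHom.range_eq_map]
      exact (map_mono le_normalizer_of_normal).trans (le_normalizer_map _))⟩
  rw [← hR3]
  rintro _ ⟨r, hr, rfl⟩
  refine mem_center_iff.2 fun a => ?_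
  obtain ⟨a, rfl⟩ := hπ a
  rw [← map_mul, ← map_mul]
  refine congrArg π (hj ?_)
  rw [map_mul, map_mul]
  exact mem_center_iff.1 (h1 (mem_map_of_mem _ hr)) _

variable {F V : Type*} [Field F] [AddCommGroup V] [Module F V]

theorem k3_central {A : Type*} [Group A] {σ : A →* (V ≃ₗ[F] V)} (hσ : Function.Injective σ)
    (hA : Sc 1 σ) {R : Subgroup A} (hR : ON R) : R ≤ center A := fun g hg => by
  obtain ⟨c, hc⟩ := exists_scal (hA.2 R hR g hg)
  refine mem_center_iff.2 fun a => hσ ?_
  rw [map_mul, map_mul, ← hc]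
  exact mem_center_iff.1 (scal_mem_center c) _

theorem k3_blocks {V' : Type*} [AddCommGroup V'] [Module F V'] {I A A' : Type*} [Group I]
    [Group A] [Group A'] {x : I} (φ : A × A' →* I) (hφ : Function.Injective φ)
    (hr : φ.range = centralizer {x}) {σ : A →* (V ≃ₗ[F] V)} {σ' : A' →* (V' ≃ₗ[F] V')}
    (hσ : Function.Injective σ) (hσ' : Function.Injective σ') (hA : Sc 1 σ) (hA' : Sc 1 σ') :
    K3CG x := fun R hR g hg => by
  let Φ := equivOfRange φ hφ hr
  have hR := hR.map (Φ.symm : _ →* A × A') Φ.symm.surjective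
  have h1 := k3_central hσ hA (hR.map (MonoidHom.fst A A') Prod.fst_surjective)
    (mem_map_of_mem _ (mem_map_of_mem _ hg))
  have h2 := k3_central hσ' hA' (hR.map (MonoidHom.snd A A') Prod.snd_surjective)
    (mem_map_of_mem _ (mem_map_of_mem _ hg))
  refine mem_center_iff.2 fun a => Φ.symm.injective ?_
  rw [map_mul, map_mul]
  exact Prod.ext (mem_center_iff.1 h1 _) (mem_center_iff.1 h2 _)

variable [Finite F] [FiniteDimensional F V]

theorem k3_GL (h2 : (2 : F) ≠ 0) (x : V ≃ₗ[F] V) (hx : x * x = 1) : K3CG x := by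
  have hc := isCompl_eig (μ := 1) h2 one_ne_zero (x := x) fun v => by
    simpa using congrArg (· v) hx
  refine k3_blocks (glSum hc) (fun g k e => Prod.ext
    (LinearEquiv.ext fun w => Subtype.ext ?_) (LinearEquiv.ext fun w => Subtype.ext ?_))
    (le_antisymm ?_ fun g hg => ?_) (σ := MonoidHom.id _) (σ' := MonoidHom.id _)
    (fun _ _ => id) (fun _ _ => id) (sc_GL h2) (sc_GL h2)
  · rw [← glSum_left hc, e, glSum_left]
  · rw [← glSum_right hc, e, glSum_right]
  · rintro _ ⟨g, rfl⟩
    exact mem_centralizer_singleton_iff.2 (comm_of_eig hc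
      (fun v hv => (glSum_left hc g ⟨v, hv⟩).symm ▸ (g.1 _).2)
      fun v hv => (glSum_right hc g ⟨v, hv⟩).symm ▸ (g.2 _).2)
  · rw [mem_centralizer_singleton_iff] at hg
    refine ⟨(resE g fun _ => map_eig hg, resE g fun _ => map_eig hg), LinearEquiv.ext fun v => ?_⟩
    obtain ⟨w, w', rfl⟩ := exists_add_of_isCompl hc v
    rw [glSum_apply, map_add]
    rfl

theorem k3_GU {q : ℕ} [U.UF F q] (h2 : (2 : F) ≠ 0) {B : V →ₛₗ[U.conj F q] V →ₗ[F] F}
    (hB : IsHermSpace q B) (x : Isom B fun v => B v v) (hx : x * x = 1) : K3CG x := by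
  obtain ⟨hW, hr⟩ := forms_one hB h2 x (μ := 1) (by simp) fun v => by
    simpa using congrArg (·.1 v) hx
  exact k3_blocks (hB.sumHom hW) (hB.sumHom_injective hW) hr
    (σ := Subgroup.subtype _) (σ' := Subgroup.subtype _) (subtype_injective _)
    (subtype_injective _) (sc_GU h2 (hB.restrict hW))
    (sc_GU h2 (hB.restrict (hB.perp_inf_perp_perp hW)))

theorem k3_two {K : Type*} [Field K] [Fintype K] (h : Odd (Fintype.card K)) : (2 : K) ≠ 0 :=
  Ring.two_ne_zero fun e => by
    have := FiniteField.even_card_of_char_two e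
    rw [Nat.odd_iff] at h
    omega

end Aux

open Cfsg.Agent.K Cfsg.Agent.Class Cfsg.Agent.Class.Orth

/-- PROOF.  Variant of `K.invOdd_LSU` (K/InvCls, InvC0 `inv_transfer`, InvC3 `good_of_two_blocks`,
`good_GL`) with "central" in place of "cyclic".  `A = SL(3, F)` has centre `Z` of order 1 or 3, so `t`
lifts to `x` with `x * x = 1` (replace `x` by `x ^ 3`) and `C(t)` is the image of `C_A(x)` (if
`⁅g, x⁆ ∈ Z` then its square is 1).  Lift `oddCore C(t)` to a normal `R ≤ C_A(x)` of odd order
(`K.exists_odd_lift`); its image in `C_I(x) ≅ GL(W) × GL(W')` (`I = GL(V)`, `W, W'` the eigenspaces)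
is `K.ON`, so acts by scalars on `W` and `W'` (`K.sc_GL`), so is central in `C_I(x)`.
Alternative: S1219 (`C(t) ≅ GL₂ / Z`) and `K.sc_GL`. -/
theorem core_le_center_psl3 {F : Type} [Field F] [Fintype F] (hF : Odd (Fintype.card F))
    (t : Matrix.ProjectiveSpecialLinearGroup (Fin 3) F) (ht : orderOf t = 2) :
    oddCore (centralizer ({t} : Set (Matrix.ProjectiveSpecialLinearGroup (Fin 3) F))) ≤ center _ := by
  have := finite_linearEquiv (F := F) (V := Fin 3 → F)
  refine k3_transfer ((glEquiv (Fin 3) F).toMonoidHom.comp Matrix.SpecialLinearGroup.toGL)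
    ((glEquiv (Fin 3) F).injective.comp Matrix.SpecialLinearGroup.toGL_injective)
    (fun g hg => ?_) ?_ (fun x hx => k3_GL (k3_two hF) _ (by rw [← map_mul, hx, map_one])) t ht
  · obtain ⟨g, rfl⟩ := (glEquiv (Fin 3) F).surjective g
    obtain ⟨s, rfl⟩ : g ∈ Matrix.SpecialLinearGroup.toGL.range := by
      rw [range_toGL_eq_ker_det]
      exact Abelianization.commutator_subset_ker _ ((mem_commutator_equiv _ g).1 hg)
    exact ⟨s, rfl⟩
  · rw [card_center_SL]
    exact Nat.gcd_dvd_left _ _

/-- PROOF.  As above with `A = SU 3 F q`, `I = GU`: `K.forms_one` with `μ = 1` gives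
`C_I(x) ≅ GU(W) × GU(W')`, and `K.sc_GU`; see `K.good_GU` (K/InvC4) and the third case of
`K.invOdd_LSU`.  The centre of `SU 3` consists of scalars `a` with `a ^ 3 = 1`. -/
theorem core_le_center_psu3 {F : Type} [Field F] [Fintype F] {q : ℕ} (hF : Fintype.card F = q ^ 2)
    (hq : Odd q) (t : PSU 3 F q) (ht : orderOf t = 2) :
    oddCore (centralizer ({t} : Set (PSU 3 F q))) ≤ center _ := by
  have := finite_linearEquiv (F := F) (V := Fin 3 → F)
  have := U.UF.of_card hF
  refine k3_transfer ((guEquiv 3 F q).toMonoidHom.comp U.toGU)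
    ((guEquiv 3 F q).injective.comp U.toGU_injective) (fun g hg => ?_) ?_
    (fun x hx => k3_GU (k3_two (hF ▸ hq.pow)) (isHermSpace_hermB 3 F q) _
      (by rw [← map_mul, hx, map_one])) t ht
  · obtain ⟨g, rfl⟩ := (guEquiv 3 F q).surjective g
    obtain ⟨s, rfl⟩ : g ∈ U.toGU.range := by
      rw [U.range_toGU]
      exact Abelianization.commutator_subset_ker _ ((mem_commutator_equiv _ g).1 hg)
    exact ⟨s, rfl⟩
  · rw [U.card_center (by norm_num)]
    exact Nat.gcd_dvd_left _ _

end Cfsg.Agent.FrD
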